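import Groth.Agent.KInj.Derived
import Mathlib.Algebra.Homology.DerivedCategory.KInjective
import Mathlib.Algebra.Homology.DerivedCategory.ExactFunctor

/-!
Adjunctions on complexes / homotopy categories; right derived functors on the derived category
from K-injective resolutions; derived adjunctions.
-/

set_option autoImplicit false
universe w w' v v' u u'

namespace Groth.Agent.KInj

open CategoryTheory Limits

section

variable {A : Type*} [Category* A] [Preadditive A] {B : Type*} [Category* B] [Preadditive B]
  {F : A ⥤ B} {G : B ⥤ A} (adj : F ⊣ G) [F.Additive] [G.Additive]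
  {ι : Type*} (c : ComplexShape ι)

/-- adjunction on complexes -/
@[simps]
def mapHomologicalComplexAdj : F.mapHomologicalComplex c ⊣ G.mapHomologicalComplex c where
  unit :=
    { app := fun K =>
        { f := fun i => adj.unit.app (K.X i)
          comm' := fun i j _ => (adj.unit.naturality (K.d i j)).symm }
      naturality := fun K L f => by ext i; exact adj.unit.naturality (f.f i) }
  counit :=
    { app := fun K =>
        { f := fun i => adj.counit.app (K.X i)
          comm' := fun i j _ => (adj.counit.naturality (K.d i j)).symm }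
      naturality := fun K L f => by ext i; exact adj.counit.naturality (f.f i) }
  left_triangle_components K := by ext i; exact adj.left_triangle_components (K.X i)
  right_triangle_components K := by ext i; exact adj.right_triangle_components (K.X i)

/-- adjunction on homotopy categories -/
def mapHomotopyCategoryAdj : F.mapHomotopyCategory c ⊣ G.mapHomotopyCategory c where
  unit :=
    { app := fun K => (HomotopyCategory.quotient A c).map
        ((mapHomologicalComplexAdj adj c).unit.app K.as)
      naturality := by
        rintro ⟨K⟩ ⟨L⟩ f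
        obtain ⟨f, rfl⟩ := (HomotopyCategory.quotient A c).map_surjective f
        show (HomotopyCategory.quotient A c).map f ≫ _ =
          _ ≫ (HomotopyCategory.quotient A c).map
            ((G.mapHomologicalComplex c).map ((F.mapHomologicalComplex c).map f))
        exact ((CategoryTheory.Functor.map_comp _ _ _).symm.trans
          (congrArg _ ((mapHomologicalComplexAdj adj c).unit.naturality f))).trans
          (CategoryTheory.Functor.map_comp _ _ _) }
  counit :=
    { app := fun K => (HomotopyCategory.quotient B c).map
        ((mapHomologicalComplexAdj adj c).counit.app K.as)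
      naturality := by
        rintro ⟨K⟩ ⟨L⟩ f
        obtain ⟨f, rfl⟩ := (HomotopyCategory.quotient B c).map_surjective f
        show (HomotopyCategory.quotient B c).map
            ((F.mapHomologicalComplex c).map ((G.mapHomologicalComplex c).map f)) ≫ _ =
          _ ≫ (HomotopyCategory.quotient B c).map f
        exact ((CategoryTheory.Functor.map_comp _ _ _).symm.trans
          (congrArg _ ((mapHomologicalComplexAdj adj c).counit.naturality f))).trans
          (CategoryTheory.Functor.map_comp _ _ _) }
  left_triangle_components := by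
    rintro ⟨K⟩
    show (HomotopyCategory.quotient B c).map ((F.mapHomologicalComplex c).map
        ((mapHomologicalComplexAdj adj c).unit.app K)) ≫ (HomotopyCategory.quotient B c).map _ = _
    exact ((CategoryTheory.Functor.map_comp _ _ _).symm.trans
      (congrArg _ ((mapHomologicalComplexAdj adj c).left_triangle_components K))).trans
      (CategoryTheory.Functor.map_id _ _)
  right_triangle_components := by
    rintro ⟨K⟩
    show (HomotopyCategory.quotient A c).map _ ≫ (HomotopyCategory.quotient A c).map
        ((G.mapHomologicalComplex c).map ((mapHomologicalComplexAdj adj c).counit.app K)) = _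
    exact ((CategoryTheory.Functor.map_comp _ _ _).symm.trans
      (congrArg _ ((mapHomologicalComplexAdj adj c).right_triangle_components K))).trans
      (CategoryTheory.Functor.map_id _ _)

end

open DerivedCategory

variable {A : Type u} [Category.{v} A] [Abelian A] [HasDerivedCategory.{w} A]
  {H : Type*} [Category* H]

/-- the K-injective objects of the homotopy category -/
def kinjProp (A : Type u) [Category.{v} A] [Abelian A] :
    ObjectProperty (HomotopyCategory A (ComplexShape.up ℤ)) :=
  fun K => CochainComplex.IsKInjective K.as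

/-- K-injectives compute right derived functors on the homotopy category -/
lemma isDeforming_Qh
    (hKinj : ∀ K : CochainComplex A ℤ, ∃ (I : CochainComplex A ℤ) (f : K ⟶ I),
      I.IsKInjective ∧ QuasiIso f)
    (F : HomotopyCategory A (ComplexShape.up ℤ) ⥤ H) :
    IsDeforming (Qh : _ ⥤ DerivedCategory A) F (kinjProp A) where
  surj {X I} hI := by
    have : CochainComplex.IsKInjective I.as := hI
    exact (CochainComplex.IsKInjective.Qh_map_bijective X I.as).2
  wd {X I} f g hI e := by
    have : CochainComplex.IsKInjective I.as := hI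
    exact congrArg F.map ((CochainComplex.IsKInjective.Qh_map_bijective X I.as).1 e)
  res d := by
    obtain ⟨K, ⟨e⟩⟩ : ∃ K, Nonempty (Q.obj K ≅ d) :=
      ⟨_, ⟨(Q : _ ⥤ DerivedCategory A).objObjPreimageIso d⟩⟩
    obtain ⟨I, f, hI, hf⟩ := hKinj K
    exact ⟨(HomotopyCategory.quotient A _).obj I, hI,
      ⟨e.symm ≪≫ asIso (Q.map f) ≪≫ ((quotientCompQhIso A).app I).symm⟩⟩

/-- K-injectives compute right derived functors of functors on complexes which
send homotopic maps to equal maps -/
lemma isDeforming_Q
    (hKinj : ∀ K : CochainComplex A ℤ, ∃ (I : CochainComplex A ℤ) (f : K ⟶ I),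
      I.IsKInjective ∧ QuasiIso f)
    (F : CochainComplex A ℤ ⥤ H)
    (hF : ∀ {K L : CochainComplex A ℤ} (f g : K ⟶ L), Homotopy f g → F.map f = F.map g) :
    IsDeforming (Q : _ ⥤ DerivedCategory A) F CochainComplex.IsKInjective where
  surj {X I} hI φ := by
    obtain ⟨g, hg⟩ := (CochainComplex.IsKInjective.Qh_map_bijective
      ((HomotopyCategory.quotient A (ComplexShape.up ℤ)).obj X) I).2
      ((quotientCompQhIso A).hom.app X ≫ φ ≫ (quotientCompQhIso A).inv.app I)
    obtain ⟨g, rfl⟩ := (HomotopyCategory.quotient A (ComplexShape.up ℤ)).map_surjective g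
    refine ⟨g, ?_⟩
    have := quotientCompQhIso_hom_naturality g
    rw [hg] at this
    simpa using! this.symm
  wd {X I} f g hI e := by
    refine hF f g (HomotopyCategory.homotopyOfEq f g ?_)
    apply (CochainComplex.IsKInjective.Qh_map_bijective _ I).1
    rw [← cancel_mono ((quotientCompQhIso A).hom.app I), quotientCompQhIso_hom_naturality,
      quotientCompQhIso_hom_naturality, e]
  res d := by
    obtain ⟨K, ⟨e⟩⟩ : ∃ K, Nonempty (Q.obj K ≅ d) :=
      ⟨_, ⟨(Q : _ ⥤ DerivedCategory A).objObjPreimageIso d⟩⟩
    obtain ⟨I, f, hI, hf⟩ := hKinj K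
    exact ⟨I, hI, ⟨e.symm ≪≫ asIso (Q.map f)⟩⟩

omit [HasDerivedCategory.{w} A] in
lemma mapQ_eq_of_homotopy {B : Type u'} [Category.{v'} B] [Abelian B] [HasDerivedCategory.{w'} B]
    (G : A ⥤ B) [G.Additive] {K L : CochainComplex A ℤ} (f g : K ⟶ L) (h : Homotopy f g) :
    (G.mapHomologicalComplex (ComplexShape.up ℤ) ⋙ (Q : _ ⥤ DerivedCategory B)).map f =
      (G.mapHomologicalComplex (ComplexShape.up ℤ) ⋙ Q).map g := by
  rw [← cancel_epi ((quotientCompQhIso B).hom.app
    ((G.mapHomologicalComplex (ComplexShape.up ℤ)).obj K))]
  dsimp only [Functor.comp_map]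
  rw [← quotientCompQhIso_hom_naturality, ← quotientCompQhIso_hom_naturality,
    HomotopyCategory.eq_of_homotopy _ _ (G.mapHomotopy h)]

variable {B : Type u'} [Category.{v'} B] [Abelian B] [HasDerivedCategory.{w'} B]
  {F : A ⥤ B} {G : B ⥤ A} (adj : F ⊣ G) [F.Additive] [G.Additive]
  [PreservesFiniteLimits F] [PreservesFiniteColimits F]

include adj in
/-- `F` on derived categories is left adjoint to `RG`, complexes version -/
theorem nonempty_adj_Q
    (hKinj : ∀ K : CochainComplex B ℤ, ∃ (I : CochainComplex B ℤ) (f : K ⟶ I),
      I.IsKInjective ∧ QuasiIso f)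
    (RG : DerivedCategory B ⥤ DerivedCategory A)
    (α : G.mapHomologicalComplex (ComplexShape.up ℤ) ⋙ Q ⟶ Q ⋙ RG)
    [RG.IsRightDerivedFunctor α (HomologicalComplex.quasiIso B (ComplexShape.up ℤ))] :
    Nonempty (F.mapDerivedCategory ⊣ RG) :=
  nonempty_derived_adjunction (mapHomologicalComplexAdj adj (ComplexShape.up ℤ))
    (HomologicalComplex.quasiIso A (ComplexShape.up ℤ))
    (HomologicalComplex.quasiIso B (ComplexShape.up ℤ)) F.mapDerivedCategoryFactors α
    (isDeforming_Q hKinj _ (mapQ_eq_of_homotopy G))

include adj in
/-- `F` on derived categories is left adjoint to `RG`, homotopy category version -/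
theorem nonempty_adj_Qh
    (hKinj : ∀ K : CochainComplex B ℤ, ∃ (I : CochainComplex B ℤ) (f : K ⟶ I),
      I.IsKInjective ∧ QuasiIso f)
    (RG : DerivedCategory B ⥤ DerivedCategory A)
    (α : G.mapHomotopyCategory (ComplexShape.up ℤ) ⋙ Qh ⟶ Qh ⋙ RG)
    [RG.IsRightDerivedFunctor α (HomotopyCategory.quasiIso B (ComplexShape.up ℤ))] :
    Nonempty (F.mapDerivedCategory ⊣ RG) :=
  nonempty_derived_adjunction (mapHomotopyCategoryAdj adj (ComplexShape.up ℤ))
    (HomotopyCategory.quasiIso A (ComplexShape.up ℤ))
    (HomotopyCategory.quasiIso B (ComplexShape.up ℤ)) F.mapDerivedCategoryFactorsh α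
    (isDeforming_Qh hKinj _)

end Groth.Agent.KInj
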