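import Mathlib.Algebra.Homology.Double
import Mathlib.Algebra.Homology.HomologicalComplexAbelian
import Mathlib.Algebra.Homology.HomologySequenceLemmas
import Mathlib.Algebra.Homology.HomotopyCategory.Pretriangulated
import Mathlib.Algebra.Homology.ShortComplex.HomologicalComplex
import Mathlib.CategoryTheory.Abelian.Refinements
import Mathlib.CategoryTheory.Preadditive.Injective.LiftingProperties

/-!
Monomorphisms of cochain complexes with acyclic cokernel, disks, and the lifting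
property which detects them.
-/

set_option autoImplicit false
universe v u

namespace Groth.Agent.KInj

open CategoryTheory Limits HomologicalComplex

variable {A : Type u} [Category.{v} A] [Abelian A]

/-- `a : X ⟶ Y` has "acyclic cokernel": a cochain whose differential comes from `X` is,
up to `X`, a coboundary. -/
def CokerAcyclic {X Y : CochainComplex A ℤ} (a : X ⟶ Y) : Prop :=
  ∀ (i j k : ℤ), i + 1 = j → j + 1 = k → ∀ {T : A} (x : T ⟶ Y.X j) (y : T ⟶ X.X k),
    x ≫ Y.d j k = y ≫ a.f k → x ≫ cokernel.π (biprod.desc (a.f j) (Y.d i j)) = 0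

lemma comp_π_eq_zero {P Q T : A} (f : P ⟶ Q) (x : T ⟶ Q) {T' : A} (e : T' ⟶ T) [Epi e] (z : T' ⟶ P)
    (h : e ≫ x = z ≫ f) : x ≫ cokernel.π f = 0 := by
  rw [← cancel_epi e, reassoc_of% h, cokernel.condition, comp_zero, comp_zero]

lemma exists_of_comp_π_eq_zero {P Q T : A} (f : P ⟶ Q) (x : T ⟶ Q) (h : x ≫ cokernel.π f = 0) :
    ∃ (T' : A) (e : T' ⟶ T) (_ : Epi e) (z : T' ⟶ P), e ≫ x = z ≫ f :=
  (ShortComplex.exact_iff_exact_up_to_refinements
    (ShortComplex.mk _ _ (cokernel.condition f))).1 (ShortComplex.exact_cokernel _) x h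

lemma biprod_desc_eq {P₁ P₂ Q T : A} (z : T ⟶ P₁ ⊞ P₂) (f : P₁ ⟶ Q) (g : P₂ ⟶ Q) :
    z ≫ biprod.desc f g = (z ≫ biprod.fst) ≫ f + (z ≫ biprod.snd) ≫ g := by
  simp [biprod.desc_eq]

lemma exists_refinement_of_exactAt {K : CochainComplex A ℤ} {i j k : ℤ} (hij : i + 1 = j) (hjk : j + 1 = k)
    (hK : K.ExactAt j) {T : A} (x : T ⟶ K.X j) (hx : x ≫ K.d j k = 0) :
    ∃ (T' : A) (e : T' ⟶ T) (_ : Epi e) (y : T' ⟶ K.X i), e ≫ x = y ≫ K.d i j :=
  ((K.exactAt_iff' i j k (by simp; lia) (by simp; lia)).1 hK).exact_up_to_refinements x hx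

lemma exactAt_of_refinement {K : CochainComplex A ℤ} {i j k : ℤ} (hij : i + 1 = j) (hjk : j + 1 = k)
    (H : ∀ {T : A} (x : T ⟶ K.X j), x ≫ K.d j k = 0 →
      ∃ (T' : A) (e : T' ⟶ T) (_ : Epi e) (y : T' ⟶ K.X i), e ≫ x = y ≫ K.d i j) :
    K.ExactAt j :=
  (K.exactAt_iff' i j k (by simp; lia) (by simp; lia)).2
    ((ShortComplex.exact_iff_exact_up_to_refinements _).2 fun _ x hx => H x hx)

lemma cokerAcyclic_iff {S : ShortComplex (CochainComplex A ℤ)} (hS : S.ShortExact) :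
    CokerAcyclic S.f ↔ S.X₃.Acyclic := by
  have hn : ∀ n, (S.map (eval A (ComplexShape.up ℤ) n)).ShortExact := fun n =>
    hS.map_of_exact (eval A (ComplexShape.up ℤ) n)
  have hm : ∀ n, Mono (S.f.f n) := fun n => (hn n).mono_f
  have hm' : ∀ n, Mono (S.map (eval A (ComplexShape.up ℤ) n)).f := fun n => (hn n).mono_f
  have he : ∀ n, Epi (S.g.f n) := fun n => (hn n).epi_g
  have hz : ∀ n, S.f.f n ≫ S.g.f n = 0 := fun n => by rw [← comp_f, S.zero]; rfl
  constructor
  · intro H j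
    refine exactAt_of_refinement (show j - 1 + 1 = j by lia) rfl fun {T} x hx => ?_
    obtain ⟨T₁, e₁, _, x₁, hx₁⟩ := surjective_up_to_refinements_of_epi (S.g.f j) x
    have h0 : (x₁ ≫ S.X₂.d j (j + 1)) ≫ S.g.f (j + 1) = 0 := by
      rw [Category.assoc, ← S.g.comm, ← reassoc_of% hx₁, hx, comp_zero]
    obtain ⟨l, hl⟩ : ∃ l : T₁ ⟶ S.X₁.X (j + 1), l ≫ S.f.f (j + 1) = x₁ ≫ S.X₂.d j (j + 1) :=
      ⟨_, (hn (j + 1)).exact.lift_f _ h0⟩
    obtain ⟨T₂, e₂, _, z, hz₂⟩ := exists_of_comp_π_eq_zero _ _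
      (H (j - 1) j (j + 1) (by lia) rfl x₁ l hl.symm)
    rw [biprod_desc_eq] at hz₂
    refine ⟨T₂, e₂ ≫ e₁, inferInstance, (z ≫ biprod.snd) ≫ S.g.f (j - 1), ?_⟩
    rw [Category.assoc, hx₁, reassoc_of% hz₂]
    simp [hz]
  · intro H i j k hi hk T x y hxy
    have h0 : (x ≫ S.g.f j) ≫ S.X₃.d j k = 0 := by
      rw [Category.assoc, S.g.comm, reassoc_of% hxy, hz, comp_zero]
    obtain ⟨T₁, e₁, _, w, hw⟩ := exists_refinement_of_exactAt hi hk (H j) _ h0
    obtain ⟨T₂, e₂, _, v, hv⟩ := surjective_up_to_refinements_of_epi (S.g.f i) w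
    have h1 : (e₂ ≫ e₁ ≫ x - v ≫ S.X₂.d i j) ≫ S.g.f j = 0 := by
      rw [Preadditive.sub_comp, Category.assoc, Category.assoc, Category.assoc, ← S.g.comm, ← reassoc_of% hv, hw,
        sub_self]
    obtain ⟨u, hu⟩ : ∃ u : T₂ ⟶ S.X₁.X j, u ≫ S.f.f j = e₂ ≫ e₁ ≫ x - v ≫ S.X₂.d i j :=
      ⟨_, (hn j).exact.lift_f _ h1⟩
    refine comp_π_eq_zero _ _ (e₂ ≫ e₁) (biprod.lift u v) ?_
    rw [biprod.lift_desc, hu, Category.assoc, sub_add_cancel]

lemma cokerAcyclic_of_acyclic {X Y : CochainComplex A ℤ} (a : X ⟶ Y) [Mono a] (hX : X.Acyclic)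
    (hY : Y.Acyclic) : CokerAcyclic a := by
  intro i j k hi hk T x y hxy
  have h0 : y ≫ X.d k (k + 1) = 0 := by
    rw [← cancel_mono (a.f (k + 1)), Category.assoc, ← a.comm, ← reassoc_of% hxy, Y.d_comp_d, comp_zero, zero_comp]
  obtain ⟨T₁, e₁, _, u, hu⟩ := exists_refinement_of_exactAt hk rfl (hX k) y h0
  have h1 : (e₁ ≫ x - u ≫ a.f j) ≫ Y.d j k = 0 := by
    rw [Preadditive.sub_comp, Category.assoc, Category.assoc, a.comm, ← reassoc_of% hu, hxy, sub_self]
  obtain ⟨T₂, e₂, _, v, hv⟩ := exists_refinement_of_exactAt hi hk (hY j) _ h1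
  refine comp_π_eq_zero _ _ (e₂ ≫ e₁) (biprod.lift (e₂ ≫ u) v) ?_
  rw [biprod.lift_desc, ← hv, Preadditive.comp_sub, Category.assoc, Category.assoc, add_sub_cancel]

lemma diskRel (n : ℤ) : (ComplexShape.up ℤ).Rel n (n + 1) := rfl

/-- the disk on `P` in degrees `n, n + 1` -/
noncomputable abbrev disk (P : A) (n : ℤ) : CochainComplex A ℤ :=
  double (𝟙 P) (diskRel n)

lemma disk_acyclic (P : A) (n : ℤ) : (disk P n).Acyclic := by
  intro k
  refine exactAt_of_refinement (show k - 1 + 1 = k by lia) rfl fun {T} x hx => ?_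
  by_cases h₀ : k = n
  · subst h₀
    refine ⟨T, 𝟙 T, inferInstance, 0, ?_⟩
    rw [double_d _ _ (by lia), Category.id_comp] at hx
    rw [Category.id_comp, zero_comp]
    exact (cancel_mono ((doubleXIso₀ (𝟙 _) (diskRel k)).hom ≫ (doubleXIso₁ (𝟙 P) _ (show k ≠ k + 1 by lia)).inv)).1
      (hx.trans zero_comp.symm)
  by_cases h₁ : k = n + 1
  · obtain rfl : n = k - 1 := by lia
    have : IsIso ((disk P (k - 1)).d (k - 1) k) := by
      generalize hn : k - 1 = n
      obtain rfl : k = n + 1 := by lia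
      rw [double_d _ _ (by lia), Category.id_comp]
      infer_instance
    exact ⟨T, 𝟙 T, inferInstance, x ≫ inv ((disk P (k - 1)).d (k - 1) k), by simp⟩
  exact ⟨T, 𝟙 T, inferInstance, 0, (isZero_double_X _ _ k h₀ h₁).eq_of_tgt _ _⟩

section toDisk

variable {E : A} {X : CochainComplex A ℤ} {n : ℤ}

open scoped Classical in
/-- morphisms to a disk -/
noncomputable def toDisk (h : X.X (n + 1) ⟶ E) : X ⟶ disk E n where
  f k :=
    if h₀ : k = n then eqToHom (by rw [h₀]) ≫ X.d n (n + 1) ≫ h ≫ (doubleXIso₀ (𝟙 _) (diskRel n)).inv ≫ eqToHom (by rw [h₀])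
    else if h₁ : k = n + 1 then
      eqToHom (by rw [h₁]) ≫ h ≫ (doubleXIso₁ (𝟙 _) (diskRel n) (by lia)).inv ≫ eqToHom (by rw [h₁])
    else 0
  comm' k l hkl := by
    obtain rfl : k + 1 = l := hkl
    by_cases h₀ : k = n
    · subst h₀
      simp [double_d _ _ (show k ≠ k + 1 by lia)]
    · rw [double_d_eq_zero₀ _ _ _ _ h₀, comp_zero]
      by_cases h₁ : k + 1 = n
      · subst h₁
        simp
      · rw [dif_neg h₁, dif_neg (show k + 1 ≠ n + 1 by lia), comp_zero]

lemma toDisk_f₁ (h : X.X (n + 1) ⟶ E) :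
    (toDisk h).f (n + 1) = h ≫ (doubleXIso₁ (𝟙 E) _ (by lia)).inv := by
  simp [toDisk]

lemma toDisk_f₀ (h : X.X (n + 1) ⟶ E) :
    (toDisk h).f n = X.d n (n + 1) ≫ h ≫ (doubleXIso₀ (𝟙 E) (diskRel n)).inv := by
  simp [toDisk]

variable (E n) in
/-- the projection from a disk to its first degree -/
noncomputable def diskToSingle : disk E n ⟶ (single A (ComplexShape.up ℤ) n).obj E :=
  mkHomFromDouble _ (by lia) (singleObjXSelf _ n E).inv 0 (by simp) (by simp)

lemma diskToSingle_f : (diskToSingle E n).f n =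
    (doubleXIso₀ (𝟙 _) (diskRel n)).hom ≫ (singleObjXSelf (ComplexShape.up ℤ) n E).inv :=
  mkHomFromDouble_f₀ _ _ _ _ _ _

end toDisk

/-- projections of injective disks lift against monomorphisms with acyclic cokernel -/
lemma hasLiftingProperty_diskToSingle (E : A) [Injective E] (n : ℤ) {X Y : CochainComplex A ℤ}
    (w : X ⟶ Y) [Mono w] (hw : CokerAcyclic w) : HasLiftingProperty w (diskToSingle E n) where
  sq_hasLift {t b} sq := by
    let t₁ : X.X (n + 1) ⟶ E := t.f (n + 1) ≫ (doubleXIso₁ (𝟙 _) (diskRel n) (by lia)).hom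
    let b₀ : Y.X n ⟶ E := b.f n ≫ (singleObjXSelf _ n E).hom
    have hb : Y.d (n - 1) n ≫ b₀ = 0 := by
      have := b.comm (n - 1) n
      simp at this
      simp [b₀, ← reassoc_of% this]
    have ht : X.d n (n + 1) ≫ t₁ = w.f n ≫ b₀ := by
      have h1 := congrArg (HomologicalComplex.Hom.f · n) sq.w
      simp only [comp_f, diskToSingle_f] at h1
      rw [show w.f n ≫ b₀ = (w.f n ≫ b.f n) ≫ (singleObjXSelf _ n E).hom from (Category.assoc _ _ _).symm, ← h1]
      rw [← t.comm_assoc, double_d _ _ (by lia)]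
      simp [t₁]
    let ψ := biprod.desc (w.f (n + 1)) (Y.d n (n + 1))
    have hex : (ShortComplex.mk _ _ (kernel.condition ψ)).Exact :=
      ShortComplex.exact_of_f_is_kernel _ (kernelIsKernel ψ)
    have hρ : kernel.ι ψ ≫ biprod.desc t₁ b₀ = 0 := by
      have h0 := kernel.condition ψ
      rw [biprod_desc_eq] at h0
      obtain ⟨T, e, _, z, hz⟩ := exists_of_comp_π_eq_zero _ _
        (hw (n - 1) n (n + 1) (by lia) rfl (kernel.ι ψ ≫ biprod.snd) (-(kernel.ι ψ ≫ biprod.fst))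
          (by rw [Preadditive.neg_comp]; exact eq_neg_of_add_eq_zero_right h0))
      rw [biprod_desc_eq] at hz
      have hu : e ≫ kernel.ι ψ ≫ biprod.fst = -((z ≫ biprod.fst) ≫ X.d n (n + 1)) := by
        rw [← cancel_mono (w.f (n + 1))]
        have h1 := eq_neg_of_add_eq_zero_left h0
        simp only [Category.assoc] at h1 hz ⊢
        rw [h1, Preadditive.comp_neg, reassoc_of% hz]
        simp [w.comm]
      rw [← cancel_epi e, comp_zero, biprod_desc_eq, Preadditive.comp_add]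
      simp only [Category.assoc] at hu hz ⊢
      rw [reassoc_of% hu, reassoc_of% hz]
      simp [hb, ht]
    let h : Y.X (n + 1) ⟶ E := hex.descToInjective (biprod.desc t₁ b₀) hρ
    have hh : ψ ≫ h = biprod.desc t₁ b₀ := hex.comp_descToInjective _ hρ
    have h₁ : w.f (n + 1) ≫ h = t₁ := by simpa [ψ] using congrArg (biprod.inl ≫ ·) hh
    have h₂ : Y.d n (n + 1) ≫ h = b₀ := by simpa [ψ] using congrArg (biprod.inr ≫ ·) hh
    refine ⟨⟨{ l := toDisk h, fac_left := ?_, fac_right := ?_ }⟩⟩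
    · apply to_double_hom_ext
      · rw [comp_f, toDisk_f₀, reassoc_of% h₂, ← reassoc_of% ht]
        simp only [t₁, Category.assoc]
        rw [← t.comm_assoc, double_d _ _ (show n ≠ n + 1 by lia)]
        simp
      · rw [comp_f, toDisk_f₁, reassoc_of% h₁]
        simp [t₁]
    · apply to_single_hom_ext
      rw [comp_f, toDisk_f₀, diskToSingle_f, reassoc_of% h₂]
      simp [b₀]

/-- lifting against projections of injective disks detects acyclic cokernels -/
lemma acyclic_cokernel_of_lifting [EnoughInjectives A] {X Y : CochainComplex A ℤ} (w : X ⟶ Y)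
    (H : ∀ (E : A) (_ : Injective E) (n : ℤ), HasLiftingProperty w (diskToSingle E n)) :
    (cokernel w).Acyclic := by
  intro n
  refine exactAt_of_refinement (show n - 1 + 1 = n by lia) rfl fun {T} x hx => ?_
  apply exists_of_comp_π_eq_zero
  let E := Injective.under (cokernel ((cokernel w).d (n - 1) n))
  let f : (cokernel w).X n ⟶ E := cokernel.π _ ≫ Injective.ι _
  let g : cokernel w ⟶ (single A (ComplexShape.up ℤ) n).obj E := mkHomToSingle f (fun i hi => by
    obtain rfl : i = n - 1 := by simp at hi; lia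
    simp [f])
  have := H E inferInstance n
  have sq : CommSq (0 : X ⟶ disk E n) w (diskToSingle E n) (cokernel.π w ≫ g) := ⟨by simp⟩
  let l : cokernel w ⟶ disk E n := cokernel.desc w sq.lift sq.fac_left
  have hl : l ≫ diskToSingle E n = g := by
    rw [← cancel_epi (cokernel.π w), cokernel.π_desc_assoc, sq.fac_right]
  have hf : f = l.f n ≫ (doubleXIso₀ (𝟙 _) (diskRel n)).hom := by
    have := congrArg (HomologicalComplex.Hom.f · n) hl
    rw [comp_f, diskToSingle_f, mkHomToSingle_f] at this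
    rw [← cancel_mono (singleObjXSelf (ComplexShape.up ℤ) n E).inv, ← this, Category.assoc]
  rw [← cancel_mono (Injective.ι _), zero_comp, Category.assoc]
  show x ≫ f = 0
  have hfd : f = (cokernel w).d n (n + 1) ≫ l.f (n + 1) ≫ (doubleXIso₁ (𝟙 _) (diskRel n) (by lia)).hom := by
    rw [hf, ← l.comm_assoc, double_d _ _ (show n ≠ n + 1 by lia)]
    simp
  rw [hfd, reassoc_of% hx, zero_comp]

lemma quasiIso_of_shortExact {S : ShortComplex (CochainComplex A ℤ)} (hS : S.ShortExact)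
    (h : S.X₃.Acyclic) : QuasiIso S.f where
  quasiIsoAt k := by
    rw [quasiIsoAt_iff_isIso_homologyMap]
    have h₃ : ∀ n, IsZero (S.X₃.homology n) := fun n => (exactAt_iff_isZero_homology _ _).1 (h n)
    have : Mono (homologyMap S.f k) :=
      (hS.homology_exact₁ (k - 1) k (by simp)).mono_g ((h₃ _).eq_of_src _ _)
    have : Epi (homologyMap S.f k) :=
      (hS.homology_exact₂ k).epi_f ((h₃ _).eq_of_tgt _ _)
    exact isIso_of_mono_of_epi _

end Groth.Agent.KInj
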