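import Groth.Agent.KInj.Small
import Groth.Agent.KInj.Basic
import Mathlib.Algebra.Homology.HomotopyCategory.KInjective
import Mathlib.CategoryTheory.Abelian.GrothendieckCategory.EnoughInjectives
import Mathlib.Order.Zorn

/-!
Existence of K-injective resolutions with injective terms in a Grothendieck abelian
category, by the small object argument.
-/

set_option autoImplicit false
universe v u

namespace Groth.Agent.KInj

open CategoryTheory Limits MorphismProperty ZeroObject

variable (A : Type u) [Category.{v} A] [Abelian A] [IsGrothendieckAbelian.{v} A]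

/-- indices for the generating monomorphisms with acyclic cokernel -/
structure GenIdx where
  /-- kernel of a presentation -/
  K : Subobject (bigDisk A)
  /-- the source -/
  S : Subobject (cokernel K.arrow)
  /-- acyclicity of the cokernel -/
  cond : CokerAcyclic S.arrow

instance : Small.{v} (GenIdx A) :=
  small_of_injective (f := fun w : GenIdx A =>
    (⟨w.K, w.S⟩ : Σ K : Subobject (bigDisk A), Subobject (cokernel K.arrow))) fun a b h => by
      cases a; cases b
      simp only [Sigma.mk.injEq] at h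
      obtain ⟨rfl, h⟩ := h
      simp_all

/-- the generating monomorphisms with acyclic cokernel -/
def genAcyclicMonos : MorphismProperty (CochainComplex A ℤ) :=
  MorphismProperty.ofHoms fun w : GenIdx A => w.S.arrow

instance : IsSmall.{v} (genAcyclicMonos A) := by
  dsimp [genAcyclicMonos]
  infer_instance

lemma genAcyclicMonos_le_monomorphisms : genAcyclicMonos A ≤ monomorphisms _ := by
  rintro _ _ _ ⟨w⟩
  exact inferInstanceAs (Mono _)

instance : HasSmallObjectArgument.{v} (genAcyclicMonos A) := by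
  obtain ⟨κ, hκ', hκ⟩ := HasCardinalLT.exists_regular_cardinal.{v}
    (Σ w : GenIdx A, Subobject (w.S : CochainComplex A ℤ))
  have : Fact κ.IsRegular := ⟨hκ'⟩
  have : Nonempty κ.ord.ToType := by simpa using hκ'.ne_zero
  have := WellFoundedLT.toOrderBot κ.ord.ToType
  exact ⟨κ, inferInstance, inferInstance,
    { preservesColimit {X₀ X₁ X Y} i hi f hf := by
        let hf' : (monomorphisms (CochainComplex A ℤ)).TransfiniteCompositionOfShape κ.ord.ToType f :=
          { toTransfiniteCompositionOfShape := hf.toTransfiniteCompositionOfShape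
            map_mem j hj := by
              have := (hf.attachCells j hj).pushouts_coproducts
              simp only [ofHoms_homFamily] at this
              refine (?_ : _ ≤ monomorphisms (CochainComplex A ℤ)) _ this
              simp only [pushouts_le_iff, coproducts_le_iff]
              exact genAcyclicMonos_le_monomorphisms A }
        have (j j' : κ.ord.ToType) (φ : j ⟶ j') : Mono (hf'.F.map φ) := hf'.mem_map φ
        apply IsGrothendieckAbelian.preservesColimit_coyoneda_obj_of_mono (Y := hf'.F) (κ := κ)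
        obtain ⟨w⟩ := hi
        exact hκ.of_injective (fun s => (⟨w, s⟩ : Σ w : GenIdx A, Subobject (w.S : CochainComplex A ℤ)))
          (fun s t h => by simpa using h) }⟩

variable {A}

lemma llp_le_monomorphisms : (genAcyclicMonos A).rlp.llp ≤ monomorphisms _ := by
  refine (antitone_llp (antitone_rlp (genAcyclicMonos_le_monomorphisms A))).trans ?_
  rw [IsGrothendieckAbelian.llp_rlp_monomorphisms (isSeparator_separator (CochainComplex A ℤ))]

/-- one extension step -/
lemma exists_step {Z Y I : CochainComplex A ℤ} (a : Z ⟶ Y) [Mono a] (ha : CokerAcyclic a) (hne : ¬ IsIso a)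
    (hI : (genAcyclicMonos A).rlp (0 : I ⟶ 0)) (g : Z ⟶ I) :
    ∃ (Z' : CochainComplex A ℤ) (a' : Z' ⟶ Y) (_ : Mono a') (m : Z ⟶ Z') (g' : Z' ⟶ I),
      CokerAcyclic a' ∧ m ≫ a' = a ∧ m ≫ g' = g ∧ ¬ ∃ r : Z' ⟶ Z, r ≫ a = a' := by
  let π := cokernel.π a
  have hS : (ShortComplex.mk a π (cokernel.condition a)).ShortExact :=
    { exact := ShortComplex.exact_cokernel a }
  have hQ : (cokernel a).Acyclic := (cokerAcyclic_iff hS).1 ha
  have hQ0 : ¬ IsZero (cokernel a) := fun hz => hne (by
    have : Epi a := hS.exact.epi_f (hz.eq_of_tgt _ _)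
    exact isIso_of_mono_of_epi a)
  obtain ⟨φ, hφ, hL⟩ := exists_small_acyclic π hQ hQ0
  let b := image.ι φ
  have hLa : (image (b ≫ π)).Acyclic := hL _ (factorThruImage φ ≫ factorThruImage (b ≫ π)) (image.ι _)
    (by rw [Category.assoc, image.fac, image.fac_assoc])
  let k := kernel.ι (factorThruImage (b ≫ π))
  have hkb : k ≫ b ≫ π = 0 :=
    (congrArg (k ≫ ·) (image.fac (b ≫ π)).symm).trans
      ((kernel.condition_assoc (factorThruImage (b ≫ π)) (image.ι (b ≫ π))).trans zero_comp)
  have hS' : (ShortComplex.mk k (factorThruImage (b ≫ π)) (kernel.condition _)).ShortExact :=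
    { exact := ShortComplex.exact_of_f_is_kernel _ (kernelIsKernel _) }
  have hk : CokerAcyclic k := (cokerAcyclic_iff hS').2 hLa
  -- lift of `k ≫ b` to `Z`
  obtain ⟨z, hz⟩ : ∃ z : kernel (factorThruImage (b ≫ π)) ⟶ Z, z ≫ a = k ≫ b :=
    ⟨_, hS.exact.lift_f (k ≫ b) (by simpa using hkb)⟩
  -- transfer the lifting property to `k`
  have lift : HasLiftingProperty k (0 : I ⟶ 0) := by
    let q := factorThruImage φ
    let K₀ : Subobject (bigDisk A) := Subobject.mk (kernel.ι q)
    have hq : K₀.arrow ≫ q = 0 := by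
      rw [← Subobject.underlyingIso_hom_comp_eq_mk, Category.assoc, kernel.condition, comp_zero]
    let e : cokernel K₀.arrow ⟶ image φ := cokernel.desc _ q hq
    have : Mono e := by
      refine Preadditive.mono_of_cancel_zero e fun {T} x hx => ?_
      obtain ⟨T₁, e₁, _, y, hy⟩ := surjective_up_to_refinements_of_epi (cokernel.π K₀.arrow) x
      have hyq : y ≫ q = 0 := by
        rw [← cokernel.π_desc K₀.arrow q hq, ← reassoc_of% hy, hx, comp_zero]
      have : y = (kernel.lift q y hyq ≫ (Subobject.underlyingIso (kernel.ι q)).inv) ≫ K₀.arrow := by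
        simp [K₀]
      rw [← cancel_epi e₁, hy, this, Category.assoc, cokernel.condition, comp_zero, comp_zero]
    have : Epi e := epi_of_epi_fac (cokernel.π_desc K₀.arrow q hq)
    have : IsIso e := isIso_of_mono_of_epi e
    let S₀ : Subobject (cokernel K₀.arrow) := Subobject.mk (k ≫ inv e)
    have hS₀e : S₀.arrow ≫ e = (Subobject.underlyingIso (k ≫ inv e)).hom ≫ k := by
      have h := congrArg (· ≫ e) (Subobject.underlyingIso_hom_comp_eq_mk (k ≫ inv e))
      simp only [Category.assoc, IsIso.inv_hom_id, Category.comp_id] at h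
      exact h.symm
    let ar : Arrow.mk S₀.arrow ≅ Arrow.mk k :=
      Arrow.isoMk (Subobject.underlyingIso (k ≫ inv e)) (asIso e) hS₀e.symm
    have hw : CokerAcyclic S₀.arrow := by
      have hS₀ : (ShortComplex.mk S₀.arrow (e ≫ factorThruImage (b ≫ π)) (by
          rw [reassoc_of% hS₀e, kernel.condition, comp_zero])).ShortExact :=
        ShortComplex.shortExact_of_iso (S₁ := ShortComplex.mk k (factorThruImage (b ≫ π)) (kernel.condition _))
          (ShortComplex.isoMk (Subobject.underlyingIso (k ≫ inv e)).symm (asIso e).symm (Iso.refl _)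
          (Subobject.underlyingIso_arrow (k ≫ inv e))
          (((IsIso.inv_hom_id_assoc e) _).trans (Category.comp_id _).symm)) hS'
      exact (cokerAcyclic_iff hS₀).2 hLa
    have := hI _ (MorphismProperty.ofHoms.mk (f := fun w : GenIdx A => w.S.arrow) ⟨K₀, S₀, hw⟩)
    exact HasLiftingProperty.of_arrow_iso_left ar _
  obtain ⟨h, hh⟩ : ∃ h : image φ ⟶ I, k ≫ h = z ≫ g := by
    have sq : CommSq (z ≫ g) k (0 : I ⟶ 0) (0 : image φ ⟶ 0) := ⟨by simp⟩
    exact ⟨sq.lift, sq.fac_left⟩
  let ψ := biprod.desc a b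
  let q' := factorThruImage ψ
  have hker : kernel.ι q' ≫ biprod.desc g h = 0 := by
    have h0 : kernel.ι q' ≫ ψ = 0 :=
      (congrArg (kernel.ι q' ≫ ·) (image.fac ψ).symm).trans ((kernel.condition_assoc q' (image.ι ψ)).trans zero_comp)
    rw [biprod_desc_eq] at h0
    obtain ⟨w, hw⟩ := kernel.lift' (factorThruImage (b ≫ π)) (kernel.ι q' ≫ biprod.snd) (by
      have h3 := eq_neg_of_add_eq_zero_right h0
      simp only [Category.assoc] at h3
      rw [← cancel_mono (image.ι (b ≫ π)), zero_comp, Category.assoc, Category.assoc, image.fac]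
      rw [reassoc_of% h3]
      simp [π])
    change w ≫ k = _ at hw
    have hu : kernel.ι q' ≫ biprod.fst = -(w ≫ z) := by
      rw [← cancel_mono a, Preadditive.neg_comp, Category.assoc w, hz, reassoc_of% hw]
      simpa using eq_neg_of_add_eq_zero_left h0
    rw [biprod_desc_eq, hu, ← hw, Category.assoc, hh]
    simp
  let g' : image ψ ⟶ I := Abelian.epiDesc q' (biprod.desc g h) hker
  have hg' : q' ≫ g' = biprod.desc g h := Abelian.comp_epiDesc _ _ hker
  refine ⟨image ψ, image.ι ψ, inferInstance, biprod.inl ≫ q', g', ?_, ?_, ?_, ?_⟩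
  · intro i j l hi hl T x y hxy
    have hn : ∀ n, Epi (q'.f n) := fun n => inferInstance
    obtain ⟨T₁, e₁, _, y₁, hy₁⟩ := surjective_up_to_refinements_of_epi (q'.f l) y
    have hψ : ∀ n, q'.f n ≫ (image.ι ψ).f n = ψ.f n := fun n => by
      rw [← HomologicalComplex.comp_f, image.fac]
    have hψ' : ∀ n, ψ.f n = (biprod.fst : Z ⊞ image φ ⟶ Z).f n ≫ a.f n +
        (biprod.snd : Z ⊞ image φ ⟶ image φ).f n ≫ b.f n := fun n => by
      simp only [ψ, biprod.desc_eq, HomologicalComplex.add_f_apply, HomologicalComplex.comp_f]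
    let y₂ := y₁ ≫ (biprod.snd : Z ⊞ image φ ⟶ image φ).f l
    have hd : e₁ ≫ x ≫ Y.d j l = (y₁ ≫ (biprod.fst : Z ⊞ image φ ⟶ Z).f l) ≫ a.f l + y₂ ≫ b.f l := by
      rw [hxy, reassoc_of% hy₁, hψ, hψ', Preadditive.comp_add]
      simp [y₂]
    have hπ : ∀ n, a.f n ≫ π.f n = 0 := fun n => by
      rw [← HomologicalComplex.comp_f, cokernel.condition]; rfl
    let p := factorThruImage (b ≫ π)
    have hp : ∀ n, p.f n ≫ (image.ι (b ≫ π)).f n = b.f n ≫ π.f n := fun n => by
      rw [← HomologicalComplex.comp_f, image.fac]; rfl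
    have hcyc : (y₂ ≫ p.f l) ≫ (image (b ≫ π)).d l (l + 1) = 0 := by
      rw [← cancel_mono ((image.ι (b ≫ π)).f (l + 1)), zero_comp, Category.assoc, Category.assoc,
        ← HomologicalComplex.Hom.comm, reassoc_of% (hp l)]
      have := congrArg (· ≫ π.f l ≫ (cokernel a).d l (l + 1)) hd
      simp only [Category.assoc, Preadditive.add_comp, reassoc_of% (hπ l), zero_comp, comp_zero, zero_add] at this
      simp only [π.comm, HomologicalComplex.d_comp_d_assoc, zero_comp, comp_zero] at this ⊢
      simpa using this.symm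
    obtain ⟨T₂, e₂, _, u, hu⟩ := exists_refinement_of_exactAt hl rfl (hLa l) _ hcyc
    obtain ⟨T₃, e₃, _, c, hc⟩ := surjective_up_to_refinements_of_epi (p.f j) u
    have h2 : ((e₃ ≫ e₂ ≫ e₁ ≫ x - c ≫ b.f j) ≫ Y.d j l) ≫ π.f l = 0 := by
      have h3 : e₁ ≫ x ≫ Y.d j l ≫ π.f l = y₂ ≫ b.f l ≫ π.f l := by
        have := congrArg (· ≫ π.f l) hd
        simpa [hπ] using this
      simp only [Preadditive.sub_comp, Category.assoc]
      rw [h3, ← hp, reassoc_of% hu, reassoc_of% hc, sub_eq_zero, b.comm_assoc, ← hp, p.comm_assoc]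
    have hna : (ShortComplex.mk (a.f l) (π.f l) (hπ l)).Exact :=
      hS.exact.map (HomologicalComplex.eval A (ComplexShape.up ℤ) l)
    have : Mono (a.f l) := inferInstance
    obtain ⟨T₄, e₄, _, z', hz'⟩ := exists_of_comp_π_eq_zero _ _
      (ha i j l hi hl (e₃ ≫ e₂ ≫ e₁ ≫ x - c ≫ b.f j) (hna.lift _ h2) (hna.lift_f _ h2).symm)
    rw [biprod_desc_eq, Preadditive.comp_sub, sub_eq_iff_eq_add] at hz'
    refine comp_π_eq_zero _ _ (e₄ ≫ e₃ ≫ e₂ ≫ e₁)
      (biprod.lift (((z' ≫ biprod.fst) ≫ (biprod.inl : Z ⟶ Z ⊞ image φ).f j +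
        (e₄ ≫ c) ≫ (biprod.inr : image φ ⟶ Z ⊞ image φ).f j) ≫ q'.f j) (z' ≫ biprod.snd)) ?_
    simp only [Category.assoc] at hz' ⊢
    rw [hz', biprod.lift_desc]
    simp only [Category.assoc, Preadditive.add_comp, hψ]
    simp only [← HomologicalComplex.comp_f, ψ, biprod.inl_desc, biprod.inr_desc]
    abel
  · simp [q', ψ]
  · simp [hg']
  · rintro ⟨r, hr⟩
    apply hφ
    have hb : biprod.inr ≫ q' ≫ r ≫ a = b := by rw [hr, image.fac]; simp [ψ]
    rw [← image.fac φ, show image.ι φ = biprod.inr ≫ q' ≫ r ≫ a from hb.symm]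
    simp [π]

/-- a partial extension of a morphism along a monomorphism -/
structure PartialExt {X Y I : CochainComplex A ℤ} (f : X ⟶ Y) (t : X ⟶ I) where
  /-- domain -/
  Z : CochainComplex A ℤ
  /-- inclusion -/
  a : Z ⟶ Y
  mono : Mono a
  /-- the structure map -/
  i : X ⟶ Z
  fac : i ≫ a = f
  /-- the extension -/
  g : Z ⟶ I
  comm : i ≫ g = t
  good : CokerAcyclic a

/-- a wrapper type, so that no order structure is inherited -/
structure Idx (T : Type v) : Type v where
  /-- the underlying value -/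
  val : T

/-- extension of morphisms along monomorphisms with acyclic cokernel -/
lemma exists_extension {X Y I : CochainComplex A ℤ} (f : X ⟶ Y) [Mono f] (hf : CokerAcyclic f)
    (hI : (genAcyclicMonos A).rlp (0 : I ⟶ 0)) (t : X ⟶ I) : ∃ g : Y ⟶ I, f ≫ g = t := by
  let r : PartialExt f t → PartialExt f t → Prop := fun P Q =>
    ∃ m : P.Z ⟶ Q.Z, m ≫ Q.a = P.a ∧ m ≫ Q.g = P.g
  have rtrans : ∀ {P Q R}, r P Q → r Q R → r P R := by
    rintro P Q R ⟨m, h₁, h₂⟩ ⟨n, h₃, h₄⟩
    exact ⟨m ≫ n, by rw [Category.assoc, h₃, h₁], by rw [Category.assoc, h₄, h₂]⟩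
  have hbound : ∀ c, IsChain r c → ∃ ub, ∀ P ∈ c, r P ub := by
    intro c hc
    rcases c.eq_empty_or_nonempty with rfl | hne
    · exact ⟨⟨X, f, inferInstance, 𝟙 X, Category.id_comp f, t, Category.id_comp t, hf⟩, fun P hP => hP.elim⟩
    let sub : c → Subobject Y := fun P => haveI := P.1.mono; Subobject.mk P.1.a
    let J := Idx (Shrink.{v} (Set.range sub))
    let sel : J → c := fun j => ((equivShrink.{v} (Set.range sub)).symm j.val).2.choose
    have hsel : ∀ P : c, ∃ j, r P.1 (sel j).1 := by
      intro P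
      refine ⟨(⟨equivShrink.{v} (Set.range sub) ⟨sub P, P, rfl⟩⟩ : J), ?_⟩
      have h : sub (sel ((⟨equivShrink.{v} (Set.range sub) ⟨sub P, P, rfl⟩⟩ : J))) = sub P := by
        show sub ((equivShrink.{v} (Set.range sub)).symm (equivShrink.{v} (Set.range sub) ⟨sub P, P, rfl⟩)).2.choose = _
        rw [((equivShrink.{v} (Set.range sub)).symm (equivShrink.{v} (Set.range sub) ⟨sub P, P, rfl⟩)).2.choose_spec]
        simp
      generalize sel ((⟨equivShrink.{v} (Set.range sub) ⟨sub P, P, rfl⟩⟩ : J)) = Q at h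
      rcases eq_or_ne P.1 Q.1 with e | e
      · rw [e]; exact ⟨𝟙 _, Category.id_comp _, Category.id_comp _⟩
      rcases hc P.2 Q.2 e with h' | ⟨m, hm₁, hm₂⟩
      · exact h'
      · have := P.1.mono; have := Q.1.mono
        let n := Subobject.ofMkLEMk _ _ h.ge
        have hn : n ≫ Q.1.a = P.1.a := Subobject.ofMkLEMk_comp _
        refine ⟨n, hn, ?_⟩
        have : n ≫ m = 𝟙 _ := by rw [← cancel_mono P.1.a, Category.assoc, hm₁, hn, Category.id_comp]
        rw [← hm₂, reassoc_of% this]
    have hle : ∀ j j', (∃ m, m ≫ (sel j').1.a = (sel j).1.a) → r (sel j).1 (sel j').1 := by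
      rintro j j' ⟨m, hm⟩
      rcases eq_or_ne (sel j).1 (sel j').1 with e | e
      · rw [e]; exact ⟨𝟙 _, Category.id_comp _, Category.id_comp _⟩
      rcases hc (sel j).2 (sel j').2 e with h' | ⟨n, hn₁, hn₂⟩
      · exact h'
      · refine ⟨m, hm, ?_⟩
        have := (sel j).1.mono
        have : m ≫ n = 𝟙 _ := by rw [← cancel_mono (sel j).1.a, Category.assoc, hn₁, hm, Category.id_comp]
        rw [← hn₂, reassoc_of% this]
    letI : Preorder J :=
      { le := fun j j' => r (sel j).1 (sel j').1
        lt := fun j j' => r (sel j).1 (sel j').1 ∧ ¬ r (sel j').1 (sel j).1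
        lt_iff_le_not_ge := fun _ _ => Iff.rfl
        le_refl := fun j => ⟨𝟙 _, Category.id_comp _, Category.id_comp _⟩
        le_trans := fun _ _ _ => rtrans }
    have hr : ∀ {j j' : J}, (j ⟶ j') → r (sel j).1 (sel j').1 :=
      fun {j j'} φ => (show j ≤ j' from leOfHom φ)
    have : Nonempty J := ⟨⟨equivShrink.{v} _ ⟨sub ⟨_, hne.choose_spec⟩, _, rfl⟩⟩⟩
    have : IsDirected J (· ≤ ·) := ⟨fun j j' => by
      rcases eq_or_ne (sel j).1 (sel j').1 with e | e
      · exact ⟨j, le_refl j, (by show r _ _; rw [← e]; exact ⟨𝟙 _, Category.id_comp _, Category.id_comp _⟩)⟩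
      rcases hc (sel j).2 (sel j').2 e with h | h
      · exact ⟨j', h, le_refl j'⟩
      · exact ⟨j, le_refl j, h⟩⟩
    let F : J ⥤ CochainComplex A ℤ :=
      { obj := fun j => (sel j).1.Z
        map := fun φ => (hr φ).choose
        map_id := fun j => by
          have := (sel j).1.mono
          rw [← cancel_mono (sel j).1.a, (hr (𝟙 j)).choose_spec.1, Category.id_comp]
        map_comp := fun {j j' j''} φ ψ => by
          have := (sel j'').1.mono
          rw [← cancel_mono (sel j'').1.a, Category.assoc, (hr ψ).choose_spec.1,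
            (hr φ).choose_spec.1, (hr (φ ≫ ψ)).choose_spec.1] }
    let α : F ⟶ (Functor.const J).obj Y :=
      { app := fun j => (sel j).1.a
        naturality := fun j j' φ => by simp [F, (hr φ).choose_spec.1] }
    let γ : F ⟶ (Functor.const J).obj I :=
      { app := fun j => (sel j).1.g
        naturality := fun j j' φ => by simp [F, (hr φ).choose_spec.2] }
    have : ∀ j, Mono (α.app j) := fun j => (sel j).1.mono
    have := NatTrans.mono_of_mono_app α
    have : IsConnected J := IsFiltered.isConnected J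
    let a := colimit.desc F ⟨Y, α⟩
    let g := colimit.desc F ⟨I, γ⟩
    have ha : Mono a := colim.map_mono' α (colimit.isColimit F) (isColimitConstCocone J Y) a
      (fun j => (colimit.ι_desc _ j).trans (Category.comp_id _).symm)
    obtain ⟨j₀⟩ : Nonempty J := inferInstance
    refine ⟨⟨colimit F, a, ha, (sel j₀).1.i ≫ colimit.ι F j₀, by simp [a, α, (sel j₀).1.fac], g,
      by simp [g, γ, (sel j₀).1.comm], ?_⟩, fun P hP => ?_⟩
    · intro i j k hi hk T x y hxy
      refine eq_zero_of_colimit_cover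
        (isColimitOfPreserves (HomologicalComplex.eval A (ComplexShape.up ℤ) k) (colimit.isColimit F)) y _
        fun l T₁ t y₁ hy₁ => ?_
      have haj : ∀ n, (colimit.ι F l).f n ≫ a.f n = (sel l).1.a.f n := fun n => by
        rw [← HomologicalComplex.comp_f, colimit.ι_desc]
      change t ≫ y = y₁ ≫ (colimit.ι F l).f k at hy₁
      obtain ⟨T₂, e₂, _, z, hz⟩ := exists_of_comp_π_eq_zero _ _ ((sel l).1.good i j k hi hk (t ≫ x) y₁
        (by rw [Category.assoc, hxy, ← Category.assoc, hy₁]; erw [Category.assoc, haj]; try rfl))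
      rw [← Category.assoc]
      refine comp_π_eq_zero _ _ e₂ (biprod.lift ((z ≫ biprod.fst) ≫ (colimit.ι F l).f j) (z ≫ biprod.snd)) ?_
      rw [hz, biprod.lift_desc, biprod_desc_eq, Category.assoc _ _ (a.f j), haj]
    · obtain ⟨j, hj⟩ := hsel ⟨P, hP⟩
      exact rtrans hj ⟨colimit.ι F j, by simp [a, α], by simp [g, γ]⟩
  obtain ⟨P, hP⟩ := exists_maximal_of_chains_bounded hbound rtrans
  have := P.mono
  by_cases h : IsIso P.a
  · exact ⟨inv P.a ≫ P.g, (congrArg (· ≫ inv P.a ≫ P.g) P.fac.symm).trans (by simp [P.comm])⟩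
  · exfalso
    obtain ⟨Z', a', ha', m, g', hgood, hm₁, hm₂, hno⟩ := exists_step P.a P.good h hI P.g
    obtain ⟨n, hn, -⟩ := hP ⟨Z', a', ha', P.i ≫ m, by rw [Category.assoc, hm₁, P.fac], g',
      by rw [Category.assoc, hm₂, P.comm], hgood⟩ ⟨m, hm₁, hm₂⟩
    exact hno ⟨n, hn⟩

lemma rlp_diskToSingle (E : A) [Injective E] (n : ℤ) :
    (genAcyclicMonos A).rlp (diskToSingle E n) := by
  rintro _ _ _ ⟨w⟩
  exact hasLiftingProperty_diskToSingle E n _ w.cond

theorem exists_kInjective (M : CochainComplex A ℤ) :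
    ∃ (I : CochainComplex A ℤ) (f : M ⟶ I), I.IsKInjective ∧ QuasiIso f ∧ (∀ n, Mono (f.f n)) ∧
      ∀ n, Injective (I.X n) := by
  let fac := (functorialFactorizationData (genAcyclicMonos A).rlp.llp
    (genAcyclicMonos A).rlp).factorizationData (0 : M ⟶ 0)
  have hm : Mono fac.i := llp_le_monomorphisms _ fac.hi
  have hac : (cokernel fac.i).Acyclic :=
    acyclic_cokernel_of_lifting fac.i fun E _ n => fac.hi _ (rlp_diskToSingle E n)
  have hS : (ShortComplex.mk fac.i (cokernel.π fac.i) (cokernel.condition _)).ShortExact :=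
    { exact := ShortComplex.exact_cokernel _ }
  have hI : (genAcyclicMonos A).rlp (0 : fac.Z ⟶ 0) := by
    simpa [(isZero_zero _).eq_of_tgt fac.p 0] using fac.hp
  refine ⟨fac.Z, fac.i, ⟨fun {K} f hK => ?_⟩, quasiIso_of_shortExact hS hac, fun n => inferInstance,
    fun n => ⟨fun {P Q} t w _ => ?_⟩⟩
  · let inr := CochainComplex.mappingCone.inr (𝟙 K)
    have hcone : (CochainComplex.mappingCone (𝟙 K)).Acyclic := fun k => by
      rw [HomologicalComplex.exactAt_iff_isZero_homology, IsZero.iff_id_eq_zero,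
        ← HomologicalComplex.homologyMap_id,
        (CochainComplex.mappingCone.homotopyToZeroOfId K).homologyMap_eq]
      simp
    have : ∀ k, Mono (inr.f k) := fun k => mono_of_mono_fac
      (CochainComplex.mappingCone.inr_f_snd_v (𝟙 K) k)
    have : Mono inr := HomologicalComplex.mono_of_mono_f _ this
    obtain ⟨g, hg⟩ := exists_extension inr (cokerAcyclic_of_acyclic inr hK hcone) hI f
    exact ⟨(Homotopy.ofEq (by simp [← hg, inr])).trans
      ((((CochainComplex.mappingCone.homotopyToZeroOfId K).compRight g).compLeft inr).trans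
        (Homotopy.ofEq (by simp)))⟩
  · let D := HomologicalComplex.evalCompCoyonedaCorepresentableByDoubleId (C := A) (diskRel n)
      (show n ≠ n + 1 by lia)
    let u : disk P n ⟶ fac.Z := (D P).homEquiv.symm t
    let w' : disk P n ⟶ disk Q n := (D P).homEquiv.symm (w ≫ (HomologicalComplex.doubleXIso₀ (𝟙 Q) (diskRel n)).inv)
    have hw₀ : w'.f n = (HomologicalComplex.doubleXIso₀ _ _).hom ≫ w ≫
        (HomologicalComplex.doubleXIso₀ (𝟙 Q) (diskRel n)).inv := by
      simp [w', D, HomologicalComplex.evalCompCoyonedaCorepresentableByDoubleId]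
      rfl
    have : ∀ k, Mono (w'.f k) := fun k => by
      by_cases h₀ : k = n
      · subst h₀; rw [hw₀]; infer_instance
      by_cases h₁ : k = n + 1
      · subst h₁
        have : Mono ((disk Q n).d n (n + 1)) := by
          rw [HomologicalComplex.double_d _ _ (show n ≠ n + 1 by lia)]; infer_instance
        simp [w', D, HomologicalComplex.evalCompCoyonedaCorepresentableByDoubleId]
        have : Mono w := ‹_›
        exact mono_comp' ‹Mono w› (mono_comp'
          (SplitMono.mono ⟨(HomologicalComplex.doubleXIso₀ (𝟙 Q) (diskRel n)).hom, Iso.inv_hom_id _⟩)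
          ‹Mono ((disk Q n).d n (n + 1))›)
      exact ⟨fun _ _ _ => (HomologicalComplex.isZero_double_X _ _ k h₀ h₁).eq_of_tgt _ _⟩
    have : Mono w' := HomologicalComplex.mono_of_mono_f _ this
    obtain ⟨g, hg⟩ := exists_extension w' (cokerAcyclic_of_acyclic w' (disk_acyclic P n) (disk_acyclic Q n)) hI u
    refine ⟨(HomologicalComplex.doubleXIso₀ (𝟙 Q) (diskRel n)).inv ≫ g.f n, ?_⟩
    have := congrArg (HomologicalComplex.Hom.f · n) hg
    simp [hw₀, u, D, HomologicalComplex.evalCompCoyonedaCorepresentableByDoubleId] at this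
    exact this

end Groth.Agent.KInj
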