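import Mathlib.CategoryTheory.Functor.Derived.PointwiseRightDerived
import Mathlib.CategoryTheory.Functor.Derived.PointwiseLeftDerived
import Mathlib.CategoryTheory.Functor.Derived.Adjunction

/-!
Right derived functors computed by a class of objects which behave like K-injective complexes,
and the derived adjunction when the left adjoint is exact.
-/

set_option autoImplicit false

namespace Groth.Agent.KInj

open CategoryTheory Limits

variable {C D H H' : Type*} [Category* C] [Category* D] [Category* H] [Category* H']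

/-- `P` computes the right derived functor of `F` along `L` -/
structure IsDeforming (L : C ⥤ D) (F : C ⥤ H) (P : ObjectProperty C) : Prop where
  surj : ∀ {X I : C}, P I → Function.Surjective (L.map : (X ⟶ I) → _)
  wd : ∀ {X I : C} (f g : X ⟶ I), P I → L.map f = L.map g → F.map f = F.map g
  res : ∀ d : D, ∃ I, P I ∧ Nonempty (d ≅ L.obj I)

namespace IsDeforming

variable {L : C ⥤ D} {F : C ⥤ H} {P : ObjectProperty C}

lemma comp (h : IsDeforming L F P) (T : H ⥤ H') : IsDeforming L (F ⋙ T) P where
  surj hI := h.surj hI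
  wd f g hI e := congrArg T.map (h.wd f g hI e)
  res := h.res

lemma of_comp_res {X : C} (h : IsDeforming L F P) :
    ∃ I, P I ∧ ∃ f : X ⟶ I, IsIso (L.map f) := by
  obtain ⟨I, hI, ⟨e⟩⟩ := h.res (L.obj X)
  obtain ⟨f, hf⟩ := h.surj hI e.hom
  exact ⟨I, hI, f, by rw [hf]; infer_instance⟩

/-- a lift of a morphism `L.obj X ⟶ L.obj I` -/
noncomputable def lift (h : IsDeforming L F P) {X I : C} (hI : P I) (g : L.obj X ⟶ L.obj I) : X ⟶ I :=
  (h.surj hI g).choose

@[simp, reassoc]
lemma map_lift (h : IsDeforming L F P) {X I : C} (hI : P I) (g : L.obj X ⟶ L.obj I) :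
    L.map (h.lift hI g) = g :=
  (h.surj hI g).choose_spec

/-- the colimit cocone at `L.obj I` -/
noncomputable def cocone (h : IsDeforming L F P) {I : C} (hI : P I) :
    Cocone (CostructuredArrow.proj L (L.obj I) ⋙ F) where
  pt := F.obj I
  ι :=
    { app := fun j => F.map (h.lift hI j.hom)
      naturality := fun j j' φ => by
        show F.map φ.left ≫ F.map (h.lift hI j'.hom) = F.map (h.lift hI j.hom) ≫ 𝟙 _
        rw [Category.comp_id, ← F.map_comp]
        refine h.wd _ _ hI ?_
        rw [L.map_comp, map_lift, map_lift]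
        exact CostructuredArrow.w φ }

lemma cocone_ι_self (h : IsDeforming L F P) {I : C} (hI : P I) :
    (h.cocone hI).ι.app (CostructuredArrow.mk (𝟙 (L.obj I))) = 𝟙 (F.obj I) := by
  show F.map (h.lift hI (𝟙 (L.obj I))) = 𝟙 (F.obj I)
  rw [← F.map_id]
  exact h.wd _ _ hI (by rw [map_lift, L.map_id])

/-- the cocone is a colimit -/
noncomputable def isColimitCocone (h : IsDeforming L F P) {I : C} (hI : P I) :
    IsColimit (h.cocone hI) where
  desc s := s.ι.app (CostructuredArrow.mk (𝟙 (L.obj I)))
  fac s j := by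
    have := s.ι.naturality (CostructuredArrow.homMk (h.lift hI j.hom)
      (by simp) : j ⟶ CostructuredArrow.mk (𝟙 (L.obj I)))
    exact this.trans (Category.comp_id _)
  uniq s m hm := by
    have := hm (CostructuredArrow.mk (𝟙 (L.obj I)))
    rw [cocone_ι_self] at this
    exact ((Category.id_comp m).symm.trans this)

lemma hasPointwiseLeftKanExtension (h : IsDeforming L F P) :
    L.HasPointwiseLeftKanExtension F := fun d => by
  obtain ⟨I, hI, ⟨e⟩⟩ := h.res d
  rw [Functor.hasPointwiseLeftKanExtensionAt_iff_of_iso L F e]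
  exact ⟨_, h.isColimitCocone hI⟩

variable (W : MorphismProperty C) [L.IsLocalization W]

lemma hasPointwiseRightDerivedFunctor (h : IsDeforming L F P) :
    F.HasPointwiseRightDerivedFunctor W := fun X => by
  rw [F.hasPointwiseRightDerivedFunctorAt_iff L W]
  exact h.hasPointwiseLeftKanExtension _

lemma hasRightDerivedFunctor (h : IsDeforming L F P) : F.HasRightDerivedFunctor W := by
  have := h.hasPointwiseRightDerivedFunctor W
  infer_instance

lemma isIso_app (h : IsDeforming L F P) (RF : D ⥤ H) (α : F ⟶ L ⋙ RF)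
    [RF.IsRightDerivedFunctor α W] {I : C} (hI : P I) : IsIso (α.app I) := by
  have := h.hasPointwiseRightDerivedFunctor W
  let hE := Functor.isPointwiseLeftKanExtensionOfHasPointwiseRightDerivedFunctor RF α W (L.obj I)
  have h₁ := hE.fac (h.cocone hI) (CostructuredArrow.mk (𝟙 (L.obj I)))
  rw [cocone_ι_self] at h₁
  refine ⟨hE.desc (h.cocone hI), ?_, IsColimit.hom_ext hE fun j => ?_⟩
  · simpa using! h₁
  · have h₂ := IsColimit.fac hE (h.cocone hI) j
    have h₃ : α.app j.left ≫ RF.map j.hom = F.map (h.lift hI j.hom) ≫ α.app I := by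
      rw [α.naturality, Functor.comp_map, map_lift]
    refine ((Category.assoc _ _ _).symm.trans ?_).trans (Category.comp_id _).symm
    exact (congrArg (· ≫ α.app I) h₂).trans h₃.symm

lemma isRightDerivedFunctor (h : IsDeforming L F P) (RF : D ⥤ H) (α : F ⟶ L ⋙ RF)
    (hα : ∀ I, P I → IsIso (α.app I)) : RF.IsRightDerivedFunctor α W where
  isLeftKanExtension := by
    suffices hE : (Functor.LeftExtension.mk RF α).IsPointwiseLeftKanExtension from
      hE.isLeftKanExtension
    intro d
    let I := (h.res d).choose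
    have hI : P I := (h.res d).choose_spec.1
    let e : d ≅ L.obj I := (h.res d).choose_spec.2.some
    refine (Functor.LeftExtension.isPointwiseLeftKanExtensionAtEquivOfIso' _ e.symm) ?_
    have := hα I hI
    refine (h.isColimitCocone hI).ofIsoColimit
      (Cocone.ext (@asIso _ _ _ _ (α.app I) this) fun j => ?_)
    show F.map (h.lift hI j.hom) ≫ α.app I = α.app j.left ≫ RF.map j.hom
    rw [α.naturality, Functor.comp_map, map_lift]

lemma isRightDerivedFunctor_comp (h : IsDeforming L F P) (RF : D ⥤ H) (α : F ⟶ L ⋙ RF)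
    [RF.IsRightDerivedFunctor α W] (T : H ⥤ H') :
    (RF ⋙ T).IsRightDerivedFunctor
      (Functor.whiskerRight α T ≫ (Functor.associator _ _ _).hom) W :=
  (h.comp T).isRightDerivedFunctor W _ _ fun I hI => by
    have := h.isIso_app W RF α hI
    simp only [NatTrans.comp_app, Functor.associator_hom_app, Functor.whiskerRight_app]
    infer_instance

end IsDeforming

section Adjunction

variable {C₁ C₂ D₁ D₂ : Type*} [Category* C₁] [Category* C₂] [Category* D₁] [Category* D₂]
  {G : C₁ ⥤ C₂} {F : C₂ ⥤ C₁} (adj : G ⊣ F)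
  {L₁ : C₁ ⥤ D₁} {L₂ : C₂ ⥤ D₂} (W₁ : MorphismProperty C₁) (W₂ : MorphismProperty C₂)
  [L₁.IsLocalization W₁] [L₂.IsLocalization W₂]
  {G' : D₁ ⥤ D₂} (α : L₁ ⋙ G' ≅ G ⋙ L₂)
  {F' : D₂ ⥤ D₁} (β : F ⋙ L₁ ⟶ L₂ ⋙ F') [F'.IsRightDerivedFunctor β W₂]
  {P : ObjectProperty C₂}

include adj W₁ W₂ α β in
/-- derived adjunction, the left adjoint being induced on localizations -/
theorem nonempty_derived_adjunction (h : IsDeforming L₂ (F ⋙ L₁) P) : Nonempty (G' ⊣ F') := by
  have hG : W₁.IsInvertedBy (G ⋙ L₂) := fun X Y f hf => by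
    have := Localization.inverts L₁ W₁ f hf
    rw [← NatIso.naturality_1 α f]
    dsimp
    infer_instance
  have : G'.IsLeftDerivedFunctor α.hom W₁ :=
    (Functor.isLeftDerivedFunctor_iff_of_inverts G' α.hom hG).2 inferInstance
  have : (G' ⋙ F').IsLeftDerivedFunctor
      ((Functor.associator _ _ _).inv ≫ Functor.whiskerRight α.hom F') W₁ := by
    refine (Functor.isLeftDerivedFunctor_iff_of_inverts _ _ ?_).2 inferInstance
    intro X Y f hf
    have : IsIso ((G ⋙ L₂).map f) := hG f hf
    exact inferInstanceAs (IsIso (F'.map ((G ⋙ L₂).map f)))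
  have := h.isRightDerivedFunctor_comp W₂ F' β G'
  exact ⟨adj.derived W₁ W₂ α.hom β⟩

end Adjunction

end Groth.Agent.KInj
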