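import Groth.Agent.KInj.Adjunction
import Mathlib.CategoryTheory.Functor.OfSequence

/-!
Operations on K-injective complexes: products, right adjoints, sequential limits; products and
coproducts in the derived category.
-/

set_option autoImplicit false
universe w w' v v' u u'

namespace Groth.Agent.KInj

open CategoryTheory Limits CochainComplex HomComplex DerivedCategory

variable {A : Type u} [Category.{v} A] [Abelian A]

/-- from a homotopy to zero: a primitive -/
lemma exists_delta_eq {K L : CochainComplex A ℤ} (f : K ⟶ L) (h : Homotopy f 0) :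
    ∃ α : Cochain K L (-1), δ (-1) 0 α = Cochain.ofHom f :=
  ⟨Cochain.ofHomotopy h, by rw [δ_ofHomotopy, Cochain.ofHom_zero, sub_zero]⟩

/-- from a primitive: a homotopy to zero -/
lemma nonempty_homotopy_of_delta_eq {K L : CochainComplex A ℤ} {f : K ⟶ L}
    (α : Cochain K L (-1)) (h : δ (-1) 0 α = Cochain.ofHom f) : Nonempty (Homotopy f 0) :=
  ⟨(Cochain.equivHomotopy f 0).symm ⟨α, by rw [h, Cochain.ofHom_zero, add_zero]⟩⟩

/-- a map is homotopic to zero iff it extends to the cone -/
lemma exists_extension_cone {K L : CochainComplex A ℤ} (f : K ⟶ L) (h : Homotopy f 0) :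
    ∃ g : mappingCone (𝟙 K) ⟶ L, mappingCone.inr (𝟙 K) ≫ g = f := by
  obtain ⟨α, hα⟩ := exists_delta_eq f h
  exact ⟨mappingCone.desc (𝟙 K) α f (by rw [hα, Category.id_comp]), mappingCone.inr_desc _ _ _ _⟩

lemma nonempty_homotopy_of_extension_cone {K L : CochainComplex A ℤ} (g : mappingCone (𝟙 K) ⟶ L) :
    Nonempty (Homotopy (mappingCone.inr (𝟙 K) ≫ g) 0) :=
  ⟨(Homotopy.ofEq (show mappingCone.inr (𝟙 K) ≫ g =
      mappingCone.inr (𝟙 K) ≫ 𝟙 (mappingCone (𝟙 K)) ≫ g by simp)).trans
    ((((mappingCone.homotopyToZeroOfId K).compRight g).compLeft _).trans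
      (Homotopy.ofEq (by simp)))⟩

/-- homotopy to zero is detected on the factors of a product -/
lemma nonempty_homotopy_of_pi {T : Type w} {I : T → CochainComplex A ℤ} [HasProduct I]
    {K : CochainComplex A ℤ} (f : K ⟶ ∏ᶜ I) (h : ∀ t, Nonempty (Homotopy (f ≫ Pi.π I t) 0)) :
    Nonempty (Homotopy f 0) := by
  choose g hg using fun t => exists_extension_cone _ (h t).some
  have : f = mappingCone.inr (𝟙 K) ≫ Pi.lift g := Pi.hom_ext _ _ fun t => by simp [hg]
  rw [this]
  exact nonempty_homotopy_of_extension_cone _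

lemma isKInjective_pi {T : Type w} (I : T → CochainComplex A ℤ) [HasProduct I]
    (h : ∀ t, (I t).IsKInjective) : (∏ᶜ I).IsKInjective where
  nonempty_homotopy_zero f hK :=
    nonempty_homotopy_of_pi f fun t => (h t).nonempty_homotopy_zero _ hK

section RightAdjoint

variable {B : Type u'} [Category.{v'} B] [Abelian B] {F : B ⥤ A} {G : A ⥤ B} (adj : F ⊣ G)
  [F.Additive] [G.Additive] [PreservesFiniteLimits F] [PreservesFiniteColimits F]

include adj in
lemma isKInjective_rightAdjoint (I : CochainComplex A ℤ) (hI : I.IsKInjective) :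
    CochainComplex.IsKInjective ((G.mapHomologicalComplex (ComplexShape.up ℤ)).obj I) where
  nonempty_homotopy_zero {K} f hK := by
    let a := mapHomologicalComplexAdj adj (ComplexShape.up ℤ)
    have hFK : HomologicalComplex.Acyclic ((F.mapHomologicalComplex (ComplexShape.up ℤ)).obj K) :=
      fun n => ShortComplex.Exact.map (hK n) F
    refine ⟨(Homotopy.ofEq ?_).trans
      (((G.mapHomotopy (IsKInjective.homotopyZero ((a.homEquiv K I).symm f) hFK)).compLeft
        (a.unit.app K)).trans (Homotopy.ofEq ?_))⟩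
    · exact ((a.homEquiv K I).apply_symm_apply f).symm.trans (a.homEquiv_unit K I _)
    · simp

end RightAdjoint

section Limit

variable (I : ℕᵒᵖ ⥤ CochainComplex A ℤ)

lemma isKInjective_limit [HasLimitsOfShape ℕᵒᵖ A]
    (h1 : ∀ n : ℕ, (I.obj (.op n)).IsKInjective)
    (h2 : ∀ (n : ℕ) (m : ℤ), IsSplitEpi ((I.map (homOfLE (Nat.le_succ n)).op).f m)) :
    (limit I).IsKInjective where
  nonempty_homotopy_zero {K} f hK := by
    let p := fun n : ℕ => I.map (homOfLE (Nat.le_succ n)).op
    let fn := fun n : ℕ => f ≫ limit.π I (.op n)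
    have hfn : ∀ n, fn (n + 1) ≫ p n = fn n := fun n => by simp [fn, p]
    have step : ∀ n (α : Cochain K (I.obj (.op n)) (-1)), δ (-1) 0 α = Cochain.ofHom (fn n) →
        ∃ β : Cochain K (I.obj (.op (n + 1))) (-1), δ (-1) 0 β = Cochain.ofHom (fn (n + 1)) ∧
          β.comp (Cochain.ofHom (p n)) (add_zero _) = α := by
      intro n α hα
      have := h1 n
      have := h1 (n + 1)
      obtain ⟨β, hβ⟩ := exists_delta_eq _ (IsKInjective.homotopyZero (fn (n + 1)) hK)
      have hc : δ (-1) 0 (α - β.comp (Cochain.ofHom (p n)) (add_zero _)) = 0 := by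
        rw [δ_sub, δ_comp_ofHom, hα, hβ, ← Cochain.ofHom_comp, hfn, sub_self]
      obtain ⟨γ, hγ⟩ := IsKInjective.eq_δ_of_cocycle (Cocycle.mk _ 0 rfl hc) hK (-2) rfl
      let γ' : Cochain K (I.obj (.op (n + 1))) (-2) := Cochain.mk fun a b hab =>
        γ.v a b hab ≫ (h2 n b).exists_splitEpi.some.section_
      have hγ' : γ'.comp (Cochain.ofHom (p n)) (add_zero _) = γ := by
        ext a b hab
        have := (h2 n b).exists_splitEpi.some.id
        simp only [Cochain.comp_zero_cochain_v, Cochain.ofHom_v, γ', Cochain.mk_v,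
          Category.assoc, p]
        rw [this, Category.comp_id]
      refine ⟨β + δ (-2) (-1) γ', ?_, ?_⟩
      · rw [δ_add, δ_δ, hβ, add_zero]
      · rw [Cochain.add_comp, ← δ_comp_ofHom, hγ', hγ]
        exact add_sub_cancel _ _
    have := h1 0
    obtain ⟨α₀, hα₀⟩ := exists_delta_eq _ (IsKInjective.homotopyZero (fn 0) hK)
    choose next hnext₁ hnext₂ using step
    let seq : ∀ n, { α : Cochain K (I.obj (.op n)) (-1) // δ (-1) 0 α = Cochain.ofHom (fn n) } :=
      fun n => Nat.rec ⟨α₀, hα₀⟩ (fun m ih => ⟨next m ih.1 ih.2, hnext₁ m ih.1 ih.2⟩) n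
    have hseq : ∀ n, (seq (n + 1)).1.comp (Cochain.ofHom (p n)) (add_zero _) = (seq n).1 :=
      fun n => hnext₂ n (seq n).1 (seq n).2
    let cone : ∀ (a b : ℤ) (_ : a + -1 = b), Cone (I ⋙ HomologicalComplex.eval A (ComplexShape.up ℤ) b) :=
      fun a b hab =>
      { pt := K.X a
        π := NatTrans.ofOpSequence (fun n => (seq n).1.v a b hab) fun n => by
          refine (Category.id_comp _).trans ?_
          show (seq n).1.v a b hab = (seq (n + 1)).1.v a b hab ≫ (p n).f b
          conv_lhs => rw [← hseq n]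
          simp }
    let lim := fun b => isLimitOfPreserves (HomologicalComplex.eval A (ComplexShape.up ℤ) b) (limit.isLimit I)
    obtain ⟨H, hH⟩ : ∃ H : ∀ (a b : ℤ), a + -1 = b → (K.X a ⟶ (limit I).X b),
        ∀ (a b : ℤ) (h : a + -1 = b) (n : ℕ),
          H a b h ≫ (limit.π I (.op n)).f b = (seq n).1.v a b h :=
      ⟨fun a b h => (lim b).lift (cone a b h),
        fun a b h n => ((lim b).fac (cone a b h) (.op n)).trans rfl⟩
    refine nonempty_homotopy_of_delta_eq (Cochain.mk fun a b hab => H a b hab) ?_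
    ext a
    refine (lim a).hom_ext fun ⟨n⟩ => ?_
    show _ ≫ (limit.π I (.op n)).f a = _ ≫ (limit.π I (.op n)).f a
    have h3 := Cochain.congr_v (seq n).2 a a (add_zero a)
    rw [δ_v (-1) 0 (neg_add_cancel 1) _ a a (add_zero a) (a - 1) (a + 1) rfl rfl] at h3 ⊢
    simp only [Cochain.mk_v, Cochain.ofHom_v, Preadditive.add_comp, Category.assoc,
      Int.negOnePow_zero, one_smul, fn, HomologicalComplex.comp_f] at h3 ⊢
    rw [← h3, ← (limit.π I (.op n)).comm,
      ← reassoc_of% (hH a (a - 1) (sub_eq_add_neg a 1).symm n),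
      hH (a + 1) a (add_neg_cancel_right a 1) n]

end Limit

section Derived

variable [HasDerivedCategory.{w} A]

lemma Q_map_surjective {K I : CochainComplex A ℤ} [I.IsKInjective] :
    Function.Surjective (Q.map : (K ⟶ I) → _) := fun φ => by
  obtain ⟨g, hg⟩ := (IsKInjective.Qh_map_bijective
    ((HomotopyCategory.quotient A (ComplexShape.up ℤ)).obj K) I).2
    ((quotientCompQhIso A).hom.app K ≫ φ ≫ (quotientCompQhIso A).inv.app I)
  obtain ⟨g, rfl⟩ := (HomotopyCategory.quotient A (ComplexShape.up ℤ)).map_surjective g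
  refine ⟨g, ?_⟩
  have := quotientCompQhIso_hom_naturality g
  rw [hg] at this
  simpa using! this.symm

lemma nonempty_homotopy_of_Q_map_eq {K I : CochainComplex A ℤ} [I.IsKInjective] {f g : K ⟶ I}
    (h : Q.map f = Q.map g) : Nonempty (Homotopy (f - g) 0) := by
  refine ⟨Homotopy.equivSubZero (HomotopyCategory.homotopyOfEq f g ?_)⟩
  apply (IsKInjective.Qh_map_bijective _ I).1
  rw [← cancel_mono ((quotientCompQhIso A).hom.app I), quotientCompQhIso_hom_naturality,
    quotientCompQhIso_hom_naturality, h]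

lemma Q_map_eq_of_homotopy {K L : CochainComplex A ℤ} {f g : K ⟶ L} (h : Homotopy (f - g) 0) :
    (Q : _ ⥤ DerivedCategory A).map f = Q.map g := by
  rw [← cancel_epi ((quotientCompQhIso A).hom.app K), ← quotientCompQhIso_hom_naturality,
    ← quotientCompQhIso_hom_naturality,
    HomotopyCategory.eq_of_homotopy _ _ (Homotopy.equivSubZero.symm h)]

/-- products of K-injectives give products in the derived category -/
lemma hasProduct_Q {T : Type w'} (I : T → CochainComplex A ℤ) [HasProduct I]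
    (h : ∀ t, (I t).IsKInjective) (K : T → DerivedCategory A) (e : ∀ t, Q.obj (I t) ≅ K t) :
    HasProduct K := by
  have hP := isKInjective_pi I h
  refine ⟨⟨⟨Fan.mk (Q.obj (∏ᶜ I)) fun t => Q.map (Pi.π I t) ≫ (e t).hom, mkFanLimit _ ?_ ?_ ?_⟩⟩⟩
  · intro s
    let eX : Q.obj _ ≅ s.pt := (Q : _ ⥤ DerivedCategory A).objObjPreimageIso s.pt
    exact eX.inv ≫ Q.map (Pi.lift fun t =>
      haveI := h t
      (Q_map_surjective (eX.hom ≫ s.proj t ≫ (e t).inv)).choose)
  · intro s t
    haveI := h t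
    let eX : Q.obj _ ≅ s.pt := (Q : _ ⥤ DerivedCategory A).objObjPreimageIso s.pt
    show (eX.inv ≫ Q.map _) ≫ Q.map (Pi.π I t) ≫ (e t).hom = s.proj t
    rw [Category.assoc, ← Functor.map_comp_assoc, Pi.lift_π, (Q_map_surjective _).choose_spec]
    simp [eX]
  · intro s m hm
    let eX : Q.obj _ ≅ s.pt := (Q : _ ⥤ DerivedCategory A).objObjPreimageIso s.pt
    show m = eX.inv ≫ _
    obtain ⟨g, hg⟩ := Q_map_surjective (I := ∏ᶜ I) (eX.hom ≫ m)
    rw [← cancel_epi eX.hom, Iso.hom_inv_id_assoc, ← hg]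
    refine Q_map_eq_of_homotopy (nonempty_homotopy_of_pi _ fun t => ?_).some
    haveI := h t
    rw [Preadditive.sub_comp]
    apply nonempty_homotopy_of_Q_map_eq
    rw [Pi.lift_π, (Q_map_surjective _).choose_spec, Functor.map_comp, hg, Category.assoc]
    congr 1
    rw [Iso.eq_comp_inv, Category.assoc]
    exact hm t

/-- coproducts of complexes give coproducts in the derived category -/
lemma hasCoproduct_Q
    (hKinj : ∀ K : CochainComplex A ℤ, ∃ (I : CochainComplex A ℤ) (f : K ⟶ I),
      I.IsKInjective ∧ QuasiIso f)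
    {T : Type w'} [HasColimitsOfShape (Discrete T) A] (K : T → DerivedCategory A) :
    HasCoproduct K := by
  let K₀ := fun t => (Q : _ ⥤ DerivedCategory A).objPreimage (K t)
  let e : ∀ t, Q.obj (K₀ t) ≅ K t := fun t => Q.objObjPreimageIso (K t)
  choose res hres hIres using fun d : DerivedCategory A =>
    (isDeforming_Q hKinj (Q : _ ⥤ DerivedCategory A) fun f g h =>
      Q_map_eq_of_homotopy (Homotopy.equivSubZero h)).res d
  refine ⟨⟨⟨Cofan.mk (Q.obj (∐ K₀)) fun t => (e t).inv ≫ Q.map (Sigma.ι K₀ t), mkCofanColimit _ ?_ ?_ ?_⟩⟩⟩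
  · intro s
    haveI := hres s.pt
    exact Q.map (Sigma.desc fun t =>
      (Q_map_surjective ((e t).hom ≫ s.inj t ≫ (hIres s.pt).some.hom)).choose) ≫ (hIres s.pt).some.inv
  · intro s t
    haveI := hres s.pt
    show ((e t).inv ≫ Q.map (Sigma.ι K₀ t)) ≫ Q.map _ ≫ _ = s.inj t
    rw [Category.assoc, ← Functor.map_comp_assoc, Sigma.ι_desc, (Q_map_surjective _).choose_spec]
    simp
  · intro s m hm
    haveI := hres s.pt
    obtain ⟨g, hg⟩ := Q_map_surjective (I := res s.pt) (m ≫ (hIres s.pt).some.hom)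
    show m = _ ≫ _
    rw [Iso.eq_comp_inv, ← hg]
    refine Q_map_eq_of_homotopy ?_
    have H : ∀ t, Nonempty (Homotopy (Sigma.ι K₀ t ≫ (g - Sigma.desc fun t =>
        (Q_map_surjective ((e t).hom ≫ s.inj t ≫ (hIres s.pt).some.hom)).choose)) 0) := fun t => by
      rw [Preadditive.comp_sub, Sigma.ι_desc]
      apply nonempty_homotopy_of_Q_map_eq
      rw [(Q_map_surjective _).choose_spec, Functor.map_comp, hg, ← hm t]
      simp
    choose α hα using fun t => exists_delta_eq _ (H t).some
    let col := fun a => isColimitCofanMkObjOfIsColimit (HomologicalComplex.eval A (ComplexShape.up ℤ) a)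
      _ _ (coproductIsCoproduct K₀)
    refine (nonempty_homotopy_of_delta_eq (Cochain.mk fun a b hab =>
      Cofan.IsColimit.desc (col a) fun t => (α t).v a b hab) ?_).some
    ext a
    refine Cofan.IsColimit.hom_ext (col a) _ _ fun t => ?_
    have hfac : ∀ (a' b' : ℤ) (h : a' + -1 = b'),
        (Sigma.ι K₀ t).f a' ≫ Cofan.IsColimit.desc (col a') (fun t => (α t).v a' b' h) =
          (α t).v a' b' h :=
      fun a' b' h => Cofan.IsColimit.fac (col a') _ t
    show (Sigma.ι K₀ t).f a ≫ _ = (Sigma.ι K₀ t).f a ≫ _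
    have h3 := Cochain.congr_v (hα t) a a (add_zero a)
    rw [δ_v (-1) 0 (neg_add_cancel 1) _ a a (add_zero a) (a - 1) (a + 1) rfl rfl] at h3 ⊢
    simp only [Cochain.mk_v, Cochain.ofHom_v, Preadditive.comp_add,
      Int.negOnePow_zero, one_smul, HomologicalComplex.comp_f] at h3 ⊢
    rw [← h3, reassoc_of% (hfac a (a - 1) (sub_eq_add_neg a 1).symm), (Sigma.ι K₀ t).comm_assoc, hfac (a + 1) a (add_neg_cancel_right a 1)]

end Derived

end Groth.Agent.KInj
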