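import Mathlib.CategoryTheory.Abelian.GrothendieckCategory.Basic
import Mathlib.CategoryTheory.Abelian.GrothendieckCategory.ColimCoyoneda
import Mathlib.CategoryTheory.Abelian.Refinements
import Mathlib.CategoryTheory.Limits.Constructions.Filtered

/-!
Filtered colimits in a Grothendieck abelian category: a morphism into a colimit is
jointly covered by its pullbacks along the colimit legs; consequences for covering
a subobject by boundedly many elements.
-/

set_option autoImplicit false
universe v u

namespace Groth.Agent.KInj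

open CategoryTheory Limits Opposite

attribute [local instance] IsFiltered.isConnected

variable {A : Type u} [Category.{v} A] [Abelian A] [IsGrothendieckAbelian.{v} A]

lemma eq_zero_of_colimit_cover {J : Type v} [SmallCategory J] [IsFiltered J]
    {Y : J ⥤ A} {c : Cocone Y} (hc : IsColimit c) {P Z : A} (h : P ⟶ c.pt) (ψ : P ⟶ Z)
    (H : ∀ (j : J) {T : A} (t : T ⟶ P) (y : T ⟶ Y.obj j), t ≫ h = y ≫ c.ι.app j → t ≫ ψ = 0) :
    ψ = 0 := by
  have := IsGrothendieckAbelian.IsPresentable.surjectivity.isIso_f hc h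
  rw [← cancel_epi (IsGrothendieckAbelian.IsPresentable.surjectivity.f (c := c) h), comp_zero]
  apply colimit.hom_ext
  intro j
  rw [reassoc_of% (IsGrothendieckAbelian.IsPresentable.surjectivity.hf (c := c) h j), comp_zero]
  exact H j _ ((pullback.fst c.ι ((Functor.const J).map h)).app j)
    (NatTrans.congr_app (pullback.condition (f := c.ι) (g := (Functor.const J).map h)) j).symm

lemma eq_zero_of_finset_cover {U : Type v} (X : U → A) {P Z : A} (h : P ⟶ ∐ X) (ψ : P ⟶ Z)
    (H : ∀ (S : Finset (Discrete U)) {T : A} (t : T ⟶ P) (y : T ⟶ ∐ fun i : S => X i.1.as),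
      t ≫ h = y ≫ Sigma.desc (fun i : S => Sigma.ι X i.1.as) → t ≫ ψ = 0) :
    ψ = 0 := by
  classical
  exact eq_zero_of_colimit_cover
    (CoproductsFromFiniteFiltered.isColimitFiniteSubproductsCocone X) h ψ (fun S _ t y hy => H S t y hy)

/-- If `z` lands in the image of `f₁, f₂, …` (indexed by `U`), then countably many
repetitions of an index set of the size of the subobjects of an ambient object `W` suffice. -/
lemma exists_bounded_cover {U : Type v} (u₀ : U) {G Q W K : A} (f : U → (G ⟶ Q)) (κ : K ⟶ W) [Mono κ]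
    (z : K ⟶ Q) (hz : z ≫ cokernel.π (Sigma.desc f) = 0) :
    ∃ b : Shrink.{v} (Subobject W) × ℕ → U,
      z ≫ cokernel.π (Sigma.desc fun r => f (b r)) = 0 := by
  classical
  let Fs (S : Finset (Discrete U)) : (∐ fun _ : S => G) ⟶ Q := Sigma.desc fun i => f i.1.as
  let V (S : Finset (Discrete U)) : Subobject W :=
    Subobject.mk (kernel.ι (z ≫ cokernel.π (Fs S)) ≫ κ)
  let sel (v : Subobject W) : Finset (Discrete U) := if hv : ∃ S, V S = v then hv.choose else ∅
  let b : Shrink.{v} (Subobject W) × ℕ → U := fun r =>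
    ((sel ((equivShrink _).symm r.1)).toList[r.2]?).elim u₀ Discrete.as
  refine ⟨b, ?_⟩
  obtain ⟨P, e, he, h, hh⟩ := (ShortComplex.exact_iff_exact_up_to_refinements
    (ShortComplex.mk _ _ (cokernel.condition (Sigma.desc f)))).1
      (ShortComplex.exact_cokernel _) z hz
  dsimp at hh
  rw [← cancel_epi e, comp_zero]
  refine eq_zero_of_finset_cover _ h _ fun S T t y hy => ?_
  have h₁ : (t ≫ e ≫ z) ≫ cokernel.π (Fs S) = 0 := by
    have : Sigma.desc (fun i : S => Sigma.ι (fun _ : U => G) i.1.as) ≫ Sigma.desc f = Fs S :=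
      Sigma.hom_ext _ _ fun i => by simp [Fs]
    rw [hh, reassoc_of% hy]
    simp only [Category.assoc]
    rw [reassoc_of% this, cokernel.condition, comp_zero]
  have hS' : V (sel (V S)) = V S := by
    have hv : ∃ S', V S' = V S := ⟨S, rfl⟩
    simp only [sel, dif_pos hv]
    exact hv.choose_spec
  let m := Subobject.ofMkLEMk _ _ hS'.ge
  have hm : m ≫ kernel.ι (z ≫ cokernel.π (Fs (sel (V S)))) = kernel.ι (z ≫ cokernel.π (Fs S)) := by
    rw [← cancel_mono κ, Category.assoc]
    exact Subobject.ofMkLEMk_comp _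
  let l := kernel.lift (z ≫ cokernel.π (Fs S)) (t ≫ e) (by simpa using h₁)
  have h₂ : t ≫ e ≫ z ≫ cokernel.π (Fs (sel (V S))) = 0 := by
    rw [← Category.assoc t, ← kernel.lift_ι (z ≫ cokernel.π (Fs S)) (t ≫ e) (by simpa using h₁), ← hm]
    simp
  have h₃ : Fs (sel (V S)) ≫ cokernel.π (Sigma.desc fun r => f (b r)) = 0 :=
    Sigma.hom_ext _ _ fun i => by
      obtain ⟨k, hk, hki⟩ := List.getElem_of_mem (Finset.mem_toList.2 i.2)
      have hb : b (equivShrink _ (V S), k) = i.1.as := by
        simp [b, List.getElem?_eq_getElem hk, hki]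
      have : f i.1.as ≫ cokernel.π (Sigma.desc fun r => f (b r)) = 0 := by
        rw [← hb, ← Sigma.ι_desc (fun r => f (b r)) (equivShrink _ (V S), k), Category.assoc,
          cokernel.condition, comp_zero]
      simpa [Fs] using this
  rw [← cokernel.π_desc (Fs (sel (V S))) _ h₃, reassoc_of% h₂, zero_comp]

end Groth.Agent.KInj
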