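import Groth.Agent.KInj.Ops
import Groth.Agent.KInj.Basic

/-!
K-injective complexes with injective terms = lifting property against monomorphisms with acyclic
cokernel.
-/

set_option autoImplicit false
universe v u

namespace Groth.Agent.KInj

open CategoryTheory Limits CochainComplex HomComplex

variable {A : Type u} [Category.{v} A] [Abelian A]

lemma mappingCone_id_acyclic (K : CochainComplex A ℤ) : (mappingCone (𝟙 K)).Acyclic := fun k => by
  rw [HomologicalComplex.exactAt_iff_isZero_homology, IsZero.iff_id_eq_zero,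
    ← HomologicalComplex.homologyMap_id, (mappingCone.homotopyToZeroOfId K).homologyMap_eq]
  simp

/-- extension along monomorphisms with acyclic cokernel -/
lemma exists_extension_of_shortExact (I : CochainComplex A ℤ) [I.IsKInjective]
    (hI : ∀ n, Injective (I.X n)) (S : ShortComplex (CochainComplex A ℤ)) (hS : S.ShortExact)
    (h₃ : S.X₃.Acyclic) (φ : S.X₁ ⟶ I) : ∃ ψ : S.X₂ ⟶ I, S.f ≫ ψ = φ := by
  have hn := fun n => hS.map_of_exact (HomologicalComplex.eval A (ComplexShape.up ℤ) n)
  have hm : ∀ n, Mono (S.f.f n) := fun n => (hn n).mono_f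
  have he : ∀ n, Epi (S.g.f n) := fun n => (hn n).epi_g
  have he' := fun n => (hn n).epi_g
  let ψ₀ : Cochain S.X₂ I 0 := Cochain.ofHoms fun n => Injective.factorThru (φ.f n) (S.f.f n)
  have hψ₀ : (Cochain.ofHom S.f).comp ψ₀ (zero_add 0) = Cochain.ofHom φ := by
    ext n
    simp [ψ₀]
  have hd : ∀ (p q : ℤ) (hpq : p + 1 = q), S.f.f p ≫ (δ 0 1 ψ₀).v p q hpq = 0 := fun p q hpq => by
    have h := Cochain.congr_v (δ_ofHom_comp S.f ψ₀ 1) p q hpq
    rw [hψ₀, δ_ofHom, Cochain.zero_v] at h
    simpa using h.symm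
  let β : Cochain S.X₃ I 1 :=
    Cochain.mk fun p q hpq => (hn p).exact.desc ((δ 0 1 ψ₀).v p q hpq) (hd p q hpq)
  have hβ : (Cochain.ofHom S.g).comp β (zero_add 1) = δ 0 1 ψ₀ := by
    ext p q hpq
    simp only [Cochain.zero_cochain_comp_v, Cochain.ofHom_v, β, Cochain.mk_v]
    exact (hn p).exact.g_desc _ _
  have hc : δ 1 2 β = 0 := by
    ext p q hpq
    rw [← cancel_epi (S.g.f p)]
    have h := Cochain.congr_v (δ_ofHom_comp S.g β 2) p q hpq
    rw [hβ, δ_δ, Cochain.zero_v] at h
    simpa using h.symm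
  obtain ⟨γ, hγ⟩ := IsKInjective.eq_δ_of_cocycle (Cocycle.mk β 2 rfl hc) h₃ 0 rfl
  let ψ₁ : Cocycle S.X₂ I 0 :=
    Cocycle.mk (ψ₀ - (Cochain.ofHom S.g).comp γ (zero_add 0)) 1 rfl (by
      rw [δ_sub, δ_ofHom_comp, hγ]
      exact sub_eq_zero.2 hβ.symm)
  refine ⟨Cocycle.homOf ψ₁, ?_⟩
  apply HomologicalComplex.hom_ext
  intro n
  have h1 := Cochain.congr_v hψ₀ n n (add_zero n)
  simp only [Cochain.zero_cochain_comp_v, Cochain.ofHom_v] at h1
  simp only [HomologicalComplex.comp_f, Cocycle.homOf_f]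
  show S.f.f n ≫ (ψ₀ - _).v n n (add_zero n) = φ.f n
  rw [Cochain.sub_v, Preadditive.comp_sub, h1, Cochain.zero_cochain_comp_v, Cochain.ofHom_v,
    ← Category.assoc, ← HomologicalComplex.comp_f, S.zero]
  simp

lemma isKInjective_of_lifting (I : CochainComplex A ℤ)
    (H : ∀ (S : ShortComplex (CochainComplex A ℤ)), S.ShortExact → S.X₃.Acyclic →
        ∀ φ : S.X₁ ⟶ I, ∃ ψ : S.X₂ ⟶ I, S.f ≫ ψ = φ) : I.IsKInjective where
  nonempty_homotopy_zero {K} f hK := by
    have : ∀ k, Mono ((mappingCone.inr (𝟙 K)).f k) := fun k =>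
      mono_of_mono_fac (mappingCone.inr_f_snd_v (𝟙 K) k)
    have : Mono (mappingCone.inr (𝟙 K)) := HomologicalComplex.mono_of_mono_f _ this
    let S := ShortComplex.mk _ _ (cokernel.condition (mappingCone.inr (𝟙 K)))
    have hS : S.ShortExact := { exact := ShortComplex.exact_cokernel _ }
    obtain ⟨g, hg⟩ := H S hS
      ((cokerAcyclic_iff hS).1 (cokerAcyclic_of_acyclic (mappingCone.inr (𝟙 K)) hK
        (mappingCone_id_acyclic K))) f
    rw [← hg]
    exact nonempty_homotopy_of_extension_cone g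

lemma injective_of_lifting (I : CochainComplex A ℤ)
    (H : ∀ (S : ShortComplex (CochainComplex A ℤ)), S.ShortExact → S.X₃.Acyclic →
        ∀ φ : S.X₁ ⟶ I, ∃ ψ : S.X₂ ⟶ I, S.f ≫ ψ = φ) (n : ℤ) : Injective (I.X n) where
  factors {P Q} t w _ := by
    let D := HomologicalComplex.evalCompCoyonedaCorepresentableByDoubleId (C := A) (diskRel n)
      (show n ≠ n + 1 by lia)
    let u : disk P n ⟶ I := (D P).homEquiv.symm t
    let w' : disk P n ⟶ disk Q n :=
      (D P).homEquiv.symm (w ≫ (HomologicalComplex.doubleXIso₀ (𝟙 Q) (diskRel n)).inv)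
    have hw₀ : w'.f n = (HomologicalComplex.doubleXIso₀ _ _).hom ≫ w ≫
        (HomologicalComplex.doubleXIso₀ (𝟙 Q) (diskRel n)).inv := by
      simp [w', D, HomologicalComplex.evalCompCoyonedaCorepresentableByDoubleId]
      rfl
    have : ∀ k, Mono (w'.f k) := fun k => by
      by_cases h₀ : k = n
      · subst h₀; rw [hw₀]; infer_instance
      by_cases h₁ : k = n + 1
      · subst h₁
        have : Mono ((disk Q n).d n (n + 1)) := by
          rw [HomologicalComplex.double_d _ _ (show n ≠ n + 1 by lia)]; infer_instance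
        simp [w', D, HomologicalComplex.evalCompCoyonedaCorepresentableByDoubleId]
        have : Mono w := ‹_›
        exact mono_comp' ‹Mono w› (mono_comp'
          (SplitMono.mono ⟨(HomologicalComplex.doubleXIso₀ (𝟙 Q) (diskRel n)).hom, Iso.inv_hom_id _⟩)
          ‹Mono ((disk Q n).d n (n + 1))›)
      exact ⟨fun _ _ _ => (HomologicalComplex.isZero_double_X _ _ k h₀ h₁).eq_of_tgt _ _⟩
    have : Mono w' := HomologicalComplex.mono_of_mono_f _ this
    let S := ShortComplex.mk _ _ (cokernel.condition w')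
    have hS : S.ShortExact := { exact := ShortComplex.exact_cokernel _ }
    obtain ⟨g, hg⟩ := H S hS ((cokerAcyclic_iff hS).1
      (cokerAcyclic_of_acyclic w' (disk_acyclic P n) (disk_acyclic Q n))) u
    refine ⟨(HomologicalComplex.doubleXIso₀ (𝟙 Q) (diskRel n)).inv ≫ g.f n, ?_⟩
    have := congrArg (HomologicalComplex.Hom.f · n) hg
    simp only [HomologicalComplex.comp_f] at this
    change w'.f n ≫ g.f n = u.f n at this
    rw [hw₀] at this
    rw [← cancel_epi (HomologicalComplex.doubleXIso₀ (𝟙 P) (diskRel n)).hom]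
    simp only [Category.assoc] at this
    rw [this]
    simp [u, D, HomologicalComplex.evalCompCoyonedaCorepresentableByDoubleId]
    try rfl

end Groth.Agent.KInj

namespace Groth.Agent.KInj

open CategoryTheory Limits HomologicalComplex

variable {A : Type u} [Category.{v} A] [Abelian A]

lemma acyclic_of_quasiIso {S : ShortComplex (CochainComplex A ℤ)} (hS : S.ShortExact)
    [QuasiIso S.f] : S.X₃.Acyclic := fun n => by
  have hg : homologyMap S.g n = 0 := by
    have : IsIso (homologyMap S.f n) := inferInstance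
    rw [← cancel_epi (homologyMap S.f n), ← homologyMap_comp, S.zero, homologyMap_zero, comp_zero]
  have hδ : hS.δ n (n + 1) rfl = 0 := by
    have : IsIso (homologyMap S.f (n + 1)) := inferInstance
    rw [← cancel_mono (homologyMap S.f (n + 1)), hS.δ_comp, zero_comp]
  rw [HomologicalComplex.exactAt_iff_isZero_homology]
  exact (hS.homology_exact₃ n (n + 1) rfl).isZero_of_both_zeros hg hδ

end Groth.Agent.KInj
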