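import Groth.Agent.KInj.Ops
import Groth.Agent.KInj.Lifting
import Groth.Agent.FilKInj.General
import Groth.Agent.PClassRes.Basic
import Mathlib.Algebra.Homology.ShortComplex.FunctorEquivalence
import Mathlib.Algebra.Homology.ShortComplex.Limits
import Mathlib.Algebra.Homology.Factorizations.CM5a
import Mathlib

/-!
K-injective resolutions when countable products are exact.
-/

set_option autoImplicit false
set_option backward.isDefEq.respectTransparency false
set_option backward.isDefEq.respectTransparency.types false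
set_option linter.style.haveILetI false

universe w w' w'' v u

open CategoryTheory Category Limits HomologicalComplex

namespace Groth.Agent.KInjProd

variable {A : Type u} [Category.{v} A] [Abelian A]

section Homology

variable {J : Type w} [Category.{w'} J] [HasLimitsOfShape J A] [HasExactLimitsOfShape J A]

/-- homology of short complexes commutes with exact limits -/
theorem preservesLimitsOfShape_scHomology :
    PreservesLimitsOfShape J (ShortComplex.homologyFunctor A) := by
  refine ⟨fun {D} => ?_⟩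
  let S : ShortComplex (J ⥤ A) := (ShortComplex.functorEquivalence J A).inverse.obj D
  let c : Cone D :=
    { pt := S.map lim
      π := { app := fun j => S.mapNatTrans (lim.π j)
             naturality := fun i j φ => by
               apply ShortComplex.hom_ext
               · exact (id_comp _).trans (limit.w (D ⋙ ShortComplex.π₁) φ).symm
               · exact (id_comp _).trans (limit.w (D ⋙ ShortComplex.π₂) φ).symm
               · exact (id_comp _).trans (limit.w (D ⋙ ShortComplex.π₃) φ).symm } }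
  have hc : IsLimit c := ShortComplex.isLimitOfIsLimitπ _
    (IsLimit.ofIsoLimit (limit.isLimit (D ⋙ ShortComplex.π₁)) (Cone.ext (Iso.refl _) fun j => (id_comp _).symm))
    (IsLimit.ofIsoLimit (limit.isLimit (D ⋙ ShortComplex.π₂)) (Cone.ext (Iso.refl _) fun j => (id_comp _).symm))
    (IsLimit.ofIsoLimit (limit.isLimit (D ⋙ ShortComplex.π₃)) (Cone.ext (Iso.refl _) fun j => (id_comp _).symm))
  refine preservesLimit_of_preserves_limit_cone hc ?_
  let e : D ⋙ ShortComplex.homologyFunctor A ≅ S.homology :=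
    NatIso.ofComponents (fun j => S.mapHomologyIso ((evaluation J A).obj j)) fun {i j} φ => by
      have h := ShortComplex.homologyMap_mapNatTrans S ((evaluation J A).map φ)
      change ShortComplex.homologyMap (D.map φ) ≫ _ = _ ≫ S.homology.map φ
      have h' : (D.map φ : S.map ((evaluation J A).obj i) ⟶ S.map ((evaluation J A).obj j)) =
          S.mapNatTrans ((evaluation J A).map φ) := by
        apply ShortComplex.hom_ext <;> rfl
      refine (congrArg (fun m : S.map ((evaluation J A).obj i) ⟶ S.map ((evaluation J A).obj j) =>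
        ShortComplex.homologyMap m ≫ (S.mapHomologyIso ((evaluation J A).obj j)).hom) h').trans ?_
      rw [h, assoc, assoc, Iso.inv_hom_id, comp_id]
      rfl
  refine (IsLimit.postcomposeHomEquiv e _).1 ?_
  refine IsLimit.ofIsoLimit (limit.isLimit S.homology) (Cone.ext (S.mapHomologyIso lim).symm fun j => ?_)
  change limit.π S.homology j = (S.mapHomologyIso lim).inv ≫ ShortComplex.homologyMap (S.mapNatTrans (lim.π j)) ≫
    (S.mapHomologyIso ((evaluation J A).obj j)).hom
  rw [ShortComplex.homologyMap_mapNatTrans, assoc, assoc, Iso.inv_hom_id, comp_id, Iso.inv_hom_id_assoc]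
  rfl

variable {ι : Type w''} (cc : ComplexShape ι)

/-- homology of complexes commutes with exact limits -/
theorem preservesLimitsOfShape_homology (i : ι) :
    PreservesLimitsOfShape J (HomologicalComplex.homologyFunctor A cc i) := by
  haveI := preservesLimitsOfShape_scHomology (A := A) (J := J)
  let a := cc.prev i
  let b := cc.next i
  haveI : PreservesLimitsOfShape J (HomologicalComplex.shortComplexFunctor' A cc a i b) :=
    ⟨fun {D} => ⟨fun {c} hc => ⟨ShortComplex.isLimitOfIsLimitπ _
      (isLimitOfPreserves (HomologicalComplex.eval A cc a) hc)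
      (isLimitOfPreserves (HomologicalComplex.eval A cc i) hc)
      (isLimitOfPreserves (HomologicalComplex.eval A cc b) hc)⟩⟩⟩
  exact preservesLimitsOfShape_of_natIso (HomologicalComplex.homologyFunctorIso' A cc a i b rfl rfl).symm

end Homology

lemma acyclic_X₃ {S : ShortComplex (CochainComplex A ℤ)} (hS : S.ShortExact) [QuasiIso S.f] : S.X₃.Acyclic := by
  intro i
  rw [exactAt_iff_isZero_homology]
  refine (hS.homology_exact₃ i (i + 1) (by simp)).isZero_of_both_zeros ?_ ?_
  · change homologyMap S.g i = 0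
    rw [← cancel_epi (homologyMap S.f i), ← homologyMap_comp, S.zero, homologyMap_zero, comp_zero]
  · change hS.δ i (i + 1) _ = 0
    rw [← cancel_mono (homologyMap S.f (i + 1)), hS.δ_comp, zero_comp]

section Biprod

variable {B : Type u} [Category.{v} B] [Abelian B]

lemma retract_injective {X Y Z : B} (s : X ⟶ Y ⊞ Z) (r : Y ⊞ Z ⟶ X) (h : s ≫ r = 𝟙 X)
    (hY : Injective Y) (hZ : Injective Z) : Injective X :=
  Retract.injective ⟨s, r, h⟩

end Biprod

variable [EnoughInjectives A] (K : CochainComplex A ℤ)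

/-- an injective approximation of `K` in degrees `≥ -n` -/
structure Stage (n : ℕ) where
  I : CochainComplex A ℤ
  f : K ⟶ I
  ge : I.IsStrictlyGE (-(n : ℤ) - 1)
  inj : ∀ k, Injective (I.X k)
  iso : ∀ q, -(n : ℤ) ≤ q → IsIso (homologyMap f q)
  zero : ∀ q, q < -(n : ℤ) → IsZero (I.homology q)

/-- a resolution of a truncation -/
theorem exists_res (m : ℤ) : ∃ (J : CochainComplex A ℤ) (j : K.truncGE m ⟶ J),
    Mono j ∧ QuasiIso j ∧ (∀ k, Injective (J.X k)) ∧ J.IsStrictlyGE (m - 1) ∧
      (∀ q, m ≤ q → IsIso (homologyMap (K.πTruncGE m ≫ j) q)) ∧ ∀ q, q < m → IsZero (J.homology q) := by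
  obtain ⟨J, j, hj, hj', hJ, hJ'⟩ :=
    CochainComplex.Plus.modelCategoryQuillen.exists_mono_quasiIso_injective (K.truncGE m) (m - 1) m
  refine ⟨J, j, hj, hj', hJ, hJ', fun q hq => ?_, fun q hq => ?_⟩
  · haveI := CochainComplex.quasiIsoAt_πTruncGE K m q hq
    rw [homologyMap_comp]
    infer_instance
  · exact IsZero.of_iso (ShortComplex.isZero_homology_of_isZero_X₂ _ ((K.truncGE m).isZero_of_isStrictlyGE m q hq))
      (asIso (homologyMap j q)).symm

theorem nonempty_stage_zero : Nonempty (Stage K 0) := by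
  obtain ⟨J, j, -, -, hJ, hJ', hiso, hz⟩ := exists_res K 0
  exact ⟨⟨J, K.πTruncGE 0 ≫ j, by simpa using hJ', hJ, fun q hq => hiso q (by simpa using hq),
    fun q hq => hz q (by simpa using hq)⟩⟩

theorem exists_step {n : ℕ} (s : Stage K n) : ∃ (t : Stage K (n + 1)) (p : t.I ⟶ s.I),
    t.f ≫ p = s.f ∧ ∀ k, ∃ σ : s.I.X k ⟶ t.I.X k, σ ≫ p.f k = 𝟙 _ := by
  let m : ℤ := -(n : ℤ) - 1
  haveI := s.ge
  haveI : s.I.IsKInjective := haveI := s.inj; CochainComplex.isKInjective_of_injective s.I m
  obtain ⟨J, j, hj, hj', hJ, hJ', hiso, hz⟩ := exists_res K m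
  -- the map on the truncation
  let φ : K.truncGE m ⟶ s.I := CochainComplex.truncGEMap s.f m ≫ inv (s.I.πTruncGE m)
  have hφ : K.πTruncGE m ≫ φ = s.f := by
    rw [← cancel_mono (s.I.πTruncGE m)]
    simp only [φ, assoc, IsIso.inv_hom_id, comp_id]
    exact HomologicalComplex.πTruncGE_naturality _ _
  let S : ShortComplex (CochainComplex A ℤ) := ShortComplex.mk j (cokernel.π j) (cokernel.condition j)
  have hS : S.ShortExact := ShortComplex.ShortExact.mk' (ShortComplex.exact_cokernel j) hj inferInstance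
  haveI : QuasiIso S.f := hj'
  obtain ⟨ψ, hψ⟩ := KInj.exists_extension_of_shortExact s.I s.inj S hS (acyclic_X₃ hS) φ
  -- a contractible complex mapping onto the previous stage
  let P := CochainComplex.mappingCocone (𝟙 s.I)
  have hP : P.Acyclic := PClassRes.acyclic_mappingCocone (𝟙 s.I)
  let p : J ⊞ P ⟶ s.I := biprod.desc ψ (CochainComplex.mappingCocone.fst (𝟙 s.I))
  let f : K ⟶ J ⊞ P := (K.πTruncGE m ≫ j) ≫ biprod.inl
  have hinl : ∀ q, IsIso (homologyMap (biprod.inl : J ⟶ J ⊞ P) q) := fun q => by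
    refine ⟨homologyMap biprod.fst q, by rw [← homologyMap_comp, biprod.inl_fst, homologyMap_id], ?_⟩
    have h : homologyMap (biprod.snd ≫ biprod.inr : J ⊞ P ⟶ J ⊞ P) q = 0 := by
      rw [homologyMap_comp, ((exactAt_iff_isZero_homology _ _).1 (hP q)).eq_of_tgt (homologyMap biprod.snd q) 0, zero_comp]
    rw [← homologyMap_id, ← biprod.total, homologyMap_add, h, add_zero, homologyMap_comp]
  let e : ∀ k, (J ⊞ P).X k ≅ J.X k ⊞ P.X k := fun k =>
    (HomologicalComplex.eval A (ComplexShape.up ℤ) k).mapBiprod J P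
  have hPk : ∀ k, (Injective (P.X k)) ∧ (k < m → IsZero (P.X k)) := fun k => by
    have hid := CochainComplex.mappingCocone.id_X (𝟙 s.I) k (k - 1) (by omega)
    refine ⟨?_, fun hk => ?_⟩
    · refine retract_injective
        (biprod.lift ((CochainComplex.mappingCocone.fst (𝟙 s.I)).f k)
          ((CochainComplex.mappingCocone.snd (𝟙 s.I)).v k (k - 1) (by omega)))
        (biprod.desc ((CochainComplex.mappingCocone.inl (𝟙 s.I)).v k k (add_zero k))
          ((CochainComplex.mappingCocone.inr (𝟙 s.I)).1.v (k - 1) k (by omega))) ?_ (s.inj _) (s.inj _)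
      rw [biprod.lift_desc]
      exact hid
    · rw [IsZero.iff_id_eq_zero, ← hid,
        (s.I.isZero_of_isStrictlyGE m k (by omega)).eq_of_tgt ((CochainComplex.mappingCocone.fst (𝟙 s.I)).f k) 0,
        (s.I.isZero_of_isStrictlyGE m (k - 1) (by omega)).eq_of_tgt
          ((CochainComplex.mappingCocone.snd (𝟙 s.I)).v k (k - 1) (by omega)) 0]
      simp
  refine ⟨⟨J ⊞ P, f, ?_, fun k => ?_, fun q hq => ?_, fun q hq => ?_⟩, p, ?_, fun k => ?_⟩
  · refine (CochainComplex.isStrictlyGE_iff _ _).2 fun k hk => IsZero.of_iso ?_ (e k)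
    exact (biprod_isZero_iff _ _).2 ⟨J.isZero_of_isStrictlyGE (m - 1) k (by simp only [m]; push_cast at hk; omega),
      (hPk k).2 (by simp only [m]; push_cast at hk; omega)⟩
  · haveI := hJ k
    haveI := (hPk k).1
    exact Injective.of_iso (e k).symm inferInstance
  · haveI := hiso q (by simp only [m]; push_cast at hq; omega)
    haveI := hinl q
    simp only [f]
    rw [homologyMap_comp]
    infer_instance
  · haveI := hinl q
    exact IsZero.of_iso (hz q (by simp only [m]; push_cast at hq; omega))
      (asIso (homologyMap (biprod.inl : J ⟶ J ⊞ P) q)).symm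
  · change ((K.πTruncGE m ≫ j) ≫ biprod.inl) ≫ p = s.f
    rw [assoc, assoc, biprod.inl_desc]
    exact (congrArg (K.πTruncGE m ≫ ·) hψ).trans hφ
  · refine ⟨(CochainComplex.mappingCocone.inl (𝟙 s.I)).v k k (add_zero k) ≫ (biprod.inr : P ⟶ J ⊞ P).f k, ?_⟩
    change _ ≫ p.f k = 𝟙 (s.I.X k)
    rw [assoc, ← HomologicalComplex.comp_f, biprod.inr_desc]
    simp

variable [HasLimitsOfShape (Discrete ℕ) A]

/-- sections of shift maps of split towers -/
theorem exists_shift_section {T : ℕ → A} (t : ∀ n, T (n + 1) ⟶ T n) (σ : ∀ n, T n ⟶ T (n + 1))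
    (hσ : ∀ n, σ n ≫ t n = 𝟙 _) (c : Fan T) (hc : IsLimit c) (D : c.pt ⟶ c.pt)
    (hD : ∀ n, D ≫ c.proj n = c.proj n - c.proj (n + 1) ≫ t n) : ∃ S : c.pt ⟶ c.pt, S ≫ D = 𝟙 _ := by
  let e : ∀ n, c.pt ⟶ T n := fun n => Nat.rec 0 (fun n x => (x - c.proj n) ≫ σ n) n
  refine ⟨Fan.IsLimit.lift hc e, Fan.IsLimit.hom_ext hc _ _ fun n => ?_⟩
  rw [assoc, hD, Preadditive.comp_sub, Fan.IsLimit.fac, ← assoc, Fan.IsLimit.fac, id_comp]
  change e n - ((e n - c.proj n) ≫ σ n) ≫ t n = c.proj n
  rw [assoc, hσ, comp_id, sub_sub_cancel]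

variable [HasExactLimitsOfShape (Discrete ℕ) A]

/-- **K-injective resolutions** -/
theorem exists_kInjective_resolution :
    ∃ (L : CochainComplex A ℤ) (f : K ⟶ L), L.IsKInjective ∧ QuasiIso f := by
  obtain ⟨s₀⟩ := nonempty_stage_zero K
  choose nx p hp hσ using fun (n : ℕ) (s : Stage K n) => exists_step K s
  let st : ∀ n, Stage K n := fun n => Nat.rec s₀ (fun n s => nx n s) n
  let I : ℕ → CochainComplex A ℤ := fun n => (st n).I
  let pr : ∀ n, I (n + 1) ⟶ I n := fun n => p n (st n)
  let f : ∀ n, K ⟶ I n := fun n => (st n).f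
  have hf : ∀ n, f (n + 1) ≫ pr n = f n := fun n => hp n (st n)
  let π := fun n => Pi.π I n
  let d : (∏ᶜ I) ⟶ (∏ᶜ I) := Pi.lift fun n => π n - π (n + 1) ≫ pr n
  have hd : ∀ n, d ≫ π n = π n - π (n + 1) ≫ pr n := fun n => Pi.lift_π _ n
  have hsec : ∀ k, ∃ S : (∏ᶜ I).X k ⟶ (∏ᶜ I).X k, S ≫ d.f k = 𝟙 _ := fun k => by
    choose σ hσ' using fun n => hσ n (st n) k
    refine exists_shift_section (fun n => (pr n).f k) σ hσ' (Fan.mk ((∏ᶜ I).X k) fun n => (π n).f k)
      (isLimitFanMkObjOfIsLimit (HomologicalComplex.eval A (ComplexShape.up ℤ) k) _ _ (productIsProduct I))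
      (d.f k) fun n => ?_
    change d.f k ≫ (π n).f k = (π n).f k - (π (n + 1)).f k ≫ (pr n).f k
    rw [← HomologicalComplex.comp_f, hd]
    simp
  choose sec hsec using hsec
  haveI : ∀ k, Epi (d.f k) := fun k => epi_of_epi_fac (hsec k)
  haveI : Epi d := HomologicalComplex.epi_of_epi_f _ inferInstance
  let S : ShortComplex (CochainComplex A ℤ) := ShortComplex.mk (kernel.ι d) d (kernel.condition d)
  have hS : S.ShortExact := ShortComplex.ShortExact.mk'
    (ShortComplex.exact_of_f_is_kernel _ (kernelIsKernel d)) (inferInstanceAs (Mono (kernel.ι d))) inferInstance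
  have hσS : ∀ k, (S.map (HomologicalComplex.eval A (ComplexShape.up ℤ) k)).Splitting := fun k =>
    haveI := (hS.map_of_exact (HomologicalComplex.eval A (ComplexShape.up ℤ) k)).mono_f
    ShortComplex.Splitting.ofExactOfSection _ (hS.map_of_exact _).exact (sec k) (hsec k) inferInstance
  have hPi : (∏ᶜ I).IsKInjective := KInj.isKInjective_pi I fun n =>
    haveI := (st n).ge
    haveI := (st n).inj
    CochainComplex.isKInjective_of_injective _ (-(n : ℤ) - 1)
  have hw : Pi.lift f ≫ d = 0 := Pi.hom_ext _ _ fun n => by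
    rw [assoc]
    refine (congrArg (Pi.lift f ≫ ·) (hd n)).trans ?_
    rw [Preadditive.comp_sub, Pi.lift_π, ← assoc, Pi.lift_π, hf, sub_self, zero_comp]
  let g : K ⟶ kernel d := kernel.lift d (Pi.lift f) hw
  refine ⟨kernel d, g, FilKInj.isKInjective_X₁ hσS hPi hPi, ⟨fun q => ?_⟩⟩
  rw [quasiIsoAt_iff_isIso_homologyMap]
  -- homology of the products
  have hlim : ∀ i, IsLimit (Fan.mk ((∏ᶜ I).homology i) fun n => homologyMap (π n) i : Fan fun n => (I n).homology i) :=
    fun i => by
    haveI := preservesLimitsOfShape_homology (A := A) (J := Discrete ℕ) (ComplexShape.up ℤ) i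
    exact isLimitFanMkObjOfIsLimit (HomologicalComplex.homologyFunctor A (ComplexShape.up ℤ) i) _ _ (productIsProduct I)
  have hHd : ∀ i n, homologyMap d i ≫ homologyMap (π n) i =
      homologyMap (π n) i - homologyMap (π (n + 1)) i ≫ homologyMap (pr n) i := fun i n => by
    rw [← homologyMap_comp, hd, homologyMap_sub, homologyMap_comp]
  -- transition maps
  have hfac : ∀ i n, homologyMap (f (n + 1)) i ≫ homologyMap (pr n) i = homologyMap (f n) i := fun i n => by
    rw [← homologyMap_comp, hf]
  have hsplit : ∀ i n, ∃ σ : (I n).homology i ⟶ (I (n + 1)).homology i, σ ≫ homologyMap (pr n) i = 𝟙 _ := fun i n => by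
    rcases lt_or_ge i (-(n : ℤ)) with h | h
    · exact ⟨0, ((st n).zero i h).eq_of_src _ _⟩
    · haveI := (st n).iso i h
      exact ⟨inv (homologyMap (f n) i) ≫ homologyMap (f (n + 1)) i, by rw [assoc, hfac, IsIso.inv_hom_id]⟩
  have hepi : ∀ i, Epi (homologyMap d i) := fun i => by
    choose σ hσ' using hsplit i
    obtain ⟨Sx, hSx⟩ := exists_shift_section _ σ hσ' _ (hlim i) (homologyMap d i) (hHd i)
    exact epi_of_epi_fac hSx
  haveI hmono : Mono (homologyMap (kernel.ι d) q) := by
    refine (hS.homology_exact₁ (q - 1) q (by simp)).mono_g ?_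
    haveI := hepi (q - 1)
    rw [← cancel_epi (homologyMap d (q - 1)), comp_zero]
    exact hS.comp_δ (q - 1) q (by simp)
  -- stabilisation
  let N : ℕ := (-q).toNat
  have hN : ∀ n, N ≤ n → IsIso (homologyMap (f n) q) := fun n hn => (st n).iso q (by omega)
  haveI := hN N le_rfl
  let x : (kernel d).homology q ⟶ (∏ᶜ I).homology q := homologyMap (kernel.ι d) q
  have hx : ∀ n, x ≫ homologyMap (π (n + 1)) q ≫ homologyMap (pr n) q = x ≫ homologyMap (π n) q := fun n => by
    have h : x ≫ homologyMap d q = 0 := by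
      rw [← homologyMap_comp, kernel.condition, homologyMap_zero]
    have h2 := congrArg (· ≫ homologyMap (π n) q) h
    simp only [assoc, hHd, Preadditive.comp_sub, zero_comp, sub_eq_zero] at h2
    exact h2.symm
  obtain ⟨y, hyN⟩ : ∃ y : (kernel d).homology q ⟶ K.homology q, y ≫ homologyMap (f N) q = x ≫ homologyMap (π N) q :=
    ⟨x ≫ homologyMap (π N) q ≫ inv (homologyMap (f N) q), by simp⟩
  have hy : ∀ n, y ≫ homologyMap (f n) q = x ≫ homologyMap (π n) q := by
    intro n
    rcases le_total N n with h | h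
    · obtain ⟨k, rfl⟩ := Nat.exists_eq_add_of_le h
      clear h
      induction k with
      | zero => exact hyN
      | succ k ih =>
        haveI := hN (N + k) (Nat.le_add_right _ _)
        haveI := hN (N + k + 1) (by omega)
        haveI : IsIso (homologyMap (pr (N + k)) q) := by
          haveI : IsIso (homologyMap (f (N + k + 1)) q ≫ homologyMap (pr (N + k)) q) := by
            rw [hfac]; infer_instance
          exact IsIso.of_isIso_comp_left (homologyMap (f (N + k + 1)) q) _
        change y ≫ homologyMap (f (N + k + 1)) q = x ≫ homologyMap (π (N + k + 1)) q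
        rw [← cancel_mono (homologyMap (pr (N + k)) q), assoc, assoc, hfac, hx]
        exact ih
    · refine Nat.decreasingInduction (motive := fun n _ => y ≫ homologyMap (f n) q = x ≫ homologyMap (π n) q)
        (fun n _ ih => ?_) hyN h
      rw [← hfac q n, reassoc_of% ih]
      exact hx n
  have hgπ : ∀ n, homologyMap g q ≫ x ≫ homologyMap (π n) q = homologyMap (f n) q := fun n => by
    rw [← assoc, ← homologyMap_comp, ← homologyMap_comp, kernel.lift_ι, Pi.lift_π]
  refine ⟨y, ?_, ?_⟩
  · rw [← cancel_mono (homologyMap (f N) q), assoc, hy, hgπ, id_comp]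
  · rw [← cancel_mono x, id_comp, assoc]
    refine Fan.IsLimit.hom_ext (hlim q) _ _ fun n => ?_
    change (y ≫ homologyMap g q ≫ x) ≫ homologyMap (π n) q = x ≫ homologyMap (π n) q
    rw [assoc, assoc, hgπ, hy]

end Groth.Agent.KInjProd
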