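import Groth.Agent.KInj.Cover
import Mathlib.Algebra.Homology.Double
import Mathlib.Algebra.Homology.GrothendieckAbelian
import Mathlib.Algebra.Homology.HomologicalComplexAbelian
import Mathlib.Algebra.Homology.HomologicalComplexLimits
import Mathlib.Algebra.Homology.ShortComplex.HomologicalComplex

/-!
In a Grothendieck abelian category, a quotient `π : Y ⟶ Q` of cochain complexes with `Q`
acyclic and nonzero admits a map to `Y` from one fixed complex whose image in `Q` is
acyclic and nonzero.
-/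

set_option autoImplicit false
universe v u

namespace Groth.Agent.KInj

open CategoryTheory Limits

variable (A : Type u) [Category.{v} A] [Abelian A] [IsGrothendieckAbelian.{v} A]

/-- index type of the witnesses attached to an `m`-tuple -/
def WitnessIndex (m : ℕ) : Type v := Shrink.{v} (Subobject (∐ fun _ : Fin m => separator A)) × ℕ

/-- trees recording the closure process -/
inductive Witness : Type v
  | root : Witness
  | node (n : ℤ) (m : ℕ) (f : Fin m → Witness) (r : WitnessIndex A m) : Witness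

lemma upRel (k : ℤ) : (ComplexShape.up ℤ).Rel k (k + 1) := rfl

/-- the disk complexes -/
noncomputable abbrev diskFamily : Witness A × ℤ → CochainComplex A ℤ :=
  fun p => HomologicalComplex.double (𝟙 (separator A)) (upRel p.2)

/-- a complex such that all small acyclic subquotients are images of it -/
noncomputable abbrev bigDisk : CochainComplex A ℤ := ∐ diskFamily A

variable {A}
variable {Y : CochainComplex A ℤ}

/-- the map from `bigDisk` given by elements of `Y` -/
noncomputable def descBigDisk (val : Witness A → ∀ k : ℤ, separator A ⟶ Y.X k) : bigDisk A ⟶ Y :=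
  Sigma.desc fun p => HomologicalComplex.mkHomFromDouble (upRel p.2) (by lia) (val p.1 p.2)
    (val p.1 p.2 ≫ Y.d _ _) (by simp) (by simp)

variable (A) in
/-- the generators of `bigDisk` in degree `k` -/
noncomputable def gens (k : ℤ) : (∐ fun _ : Witness A => separator A) ⟶ (bigDisk A).X k :=
  Sigma.desc fun t => (HomologicalComplex.doubleXIso₀ _ (upRel k)).inv ≫
    (Sigma.ι (diskFamily A) (t, k)).f k

@[reassoc]
lemma gens_descBigDisk (val : Witness A → ∀ k : ℤ, separator A ⟶ Y.X k) (k : ℤ) :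
    gens A k ≫ (descBigDisk val).f k = Sigma.desc fun t => val t k := by
  refine Sigma.hom_ext _ _ fun t => ?_
  rw [gens, Sigma.ι_desc_assoc, Sigma.ι_desc, Category.assoc, ← HomologicalComplex.comp_f,
    descBigDisk]
  erw [Sigma.ι_desc]
  simp

lemma epi_gens (j k : ℤ) (h : j + 1 = k) :
    Epi (biprod.desc (gens A k) (gens A j ≫ (bigDisk A).d j k)) := by
  subst h
  refine (Preadditive.epi_iff_cancel_zero _).2 fun {Z} ψ hψ => ?_
  have h₁ : gens A (j + 1) ≫ ψ = 0 := by simpa using congrArg (biprod.inl ≫ ·) hψ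
  have h₂ : gens A j ≫ (bigDisk A).d j (j + 1) ≫ ψ = 0 := by simpa using congrArg (biprod.inr ≫ ·) hψ
  refine (isColimitOfPreserves (HomologicalComplex.eval A (ComplexShape.up ℤ) (j + 1))
    (coproductIsCoproduct (diskFamily A))).hom_ext fun ⟨t, l⟩ => ?_
  refine Eq.trans ?_ comp_zero.symm
  show (Sigma.ι (diskFamily A) (t, l)).f (j + 1) ≫ ψ = 0
  by_cases hl : j + 1 = l
  · subst hl
    have := congrArg (Sigma.ι (fun _ : Witness A => separator A) t ≫ ·) h₁
    simp only [gens, Sigma.ι_desc_assoc, Category.assoc, comp_zero] at this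
    exact (cancel_epi (HomologicalComplex.doubleXIso₀ _ (upRel (j + 1))).inv).1 (this.trans comp_zero.symm)
  by_cases hl' : j + 1 = l + 1
  · obtain rfl : j = l := by lia
    have := congrArg (Sigma.ι (fun _ : Witness A => separator A) t ≫ ·) h₂
    simp only [gens, Sigma.ι_desc_assoc, Category.assoc, comp_zero] at this
    rw [← Category.assoc ((Sigma.ι (diskFamily A) (t, j)).f j)] at this
    erw [HomologicalComplex.Hom.comm] at this
    rw [HomologicalComplex.double_d _ _ (by lia)] at this
    simp only [Category.id_comp, Category.assoc, Iso.inv_hom_id_assoc] at this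
    exact (cancel_epi (HomologicalComplex.doubleXIso₁ _ (upRel j) (by lia)).inv).1 (this.trans comp_zero.symm)
  exact (HomologicalComplex.isZero_double_X _ _ _ hl hl').eq_of_src _ _

theorem exists_small_acyclic {Q : CochainComplex A ℤ} (π : Y ⟶ Q) [Epi π] (hQ : Q.Acyclic)
    (hne : ¬ IsZero Q) :
    ∃ φ : bigDisk A ⟶ Y, φ ≫ π ≠ 0 ∧
      ∀ (L : CochainComplex A ℤ) (p : bigDisk A ⟶ L) (i : L ⟶ Q) [Epi p] [Mono i],
        p ≫ i = φ ≫ π → L.Acyclic := by
  classical
  have hG : IsSeparator (separator A) := isSeparator_separator A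
  obtain ⟨n₀, u₀, hu₀⟩ : ∃ (n₀ : ℤ) (u₀ : separator A ⟶ Y.X n₀), u₀ ≫ π.f n₀ ≠ 0 := by
    by_contra! hc
    apply hne
    rw [IsZero.iff_id_eq_zero, ← cancel_epi π]
    ext n
    exact hG.def _ _ fun u => by simpa using hc n u
  have cover : ∀ (n : ℤ) (m : ℕ) (a : Fin m → (separator A ⟶ Y.X (n + 1))),
      ∃ b : WitnessIndex A m → (separator A ⟶ Y.X n),
        kernel.ι (Sigma.desc (fun i => a i ≫ π.f (n + 1)) ≫ Q.d (n + 1) (n + 1 + 1)) ≫
          Sigma.desc (fun i => a i ≫ π.f (n + 1)) ≫
          cokernel.π (Sigma.desc fun r => b r ≫ π.f n ≫ Q.d n (n + 1)) = 0 := by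
    intro n m a
    let z := kernel.ι (Sigma.desc (fun i => a i ≫ π.f (n + 1)) ≫ Q.d (n + 1) (n + 1 + 1)) ≫
      Sigma.desc (fun i => a i ≫ π.f (n + 1))
    obtain ⟨b, hb⟩ := exists_bounded_cover (0 : separator A ⟶ Y.X n)
      (fun u : separator A ⟶ Y.X n => u ≫ π.f n ≫ Q.d n (n + 1))
      (kernel.ι (Sigma.desc (fun i => a i ≫ π.f (n + 1)) ≫ Q.d (n + 1) (n + 1 + 1))) z (by
        obtain ⟨T, e, he, x, hx⟩ : ∃ (T : A) (e : T ⟶ _) (_ : Epi e) (x : T ⟶ Q.X n), e ≫ z = x ≫ Q.d n (n + 1) := ((Q.exactAt_iff' n (n + 1) (n + 1 + 1) (by simp) (by simp)).1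
          (hQ (n + 1))).exact_up_to_refinements z
            (show z ≫ Q.d _ _ = 0 from (Category.assoc _ _ _).trans (kernel.condition _))
        rw [← cancel_epi e, comp_zero, reassoc_of% hx]
        have : Q.d n (n + 1) ≫ cokernel.π (Sigma.desc fun u : separator A ⟶ Y.X n => u ≫ π.f n ≫ Q.d n (n + 1)) = 0 := by
          rw [← cancel_epi (π.f n), comp_zero]
          refine hG.def _ _ fun u => ?_
          rw [comp_zero]
          have := congrArg (Sigma.ι (fun _ => separator A) u ≫ ·)
            (cokernel.condition (Sigma.desc fun u : separator A ⟶ Y.X n => u ≫ π.f n ≫ Q.d n (n + 1)))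
          simpa using this
        rw [this, comp_zero])
    simp only [z, Category.assoc] at hb
    exact ⟨b, hb⟩
  choose b hb using cover
  let val : Witness A → ∀ k : ℤ, separator A ⟶ Y.X k := fun t =>
    Witness.rec (motive := fun _ => ∀ k : ℤ, separator A ⟶ Y.X k) (Pi.single n₀ u₀)
      (fun n m _ r ih => Pi.single n (b n m (fun i => ih i (n + 1)) r)) t
  have hval : ∀ n m f r, val (.node n m f r) n = b n m (fun i => val (f i) (n + 1)) r := fun n m f r => by
    simp [val]
  refine ⟨descBigDisk val, fun h => hu₀ ?_, fun L p i _ _ fac => ?_⟩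
  · have h' := congrArg (fun q => Sigma.ι (fun _ : Witness A => separator A) Witness.root ≫ gens A n₀ ≫ HomologicalComplex.Hom.f q n₀) h
    simp only [HomologicalComplex.comp_f, gens_descBigDisk_assoc, Sigma.ι_desc_assoc,
      HomologicalComplex.zero_f, comp_zero] at h'
    simpa [val] using h'
  · intro k
    obtain ⟨n, rfl⟩ : ∃ n, k = n + 1 := ⟨k - 1, by lia⟩
    rw [L.exactAt_iff' n (n + 1) (n + 1 + 1) (by simp) (by simp),
      ShortComplex.exact_iff_exact_up_to_refinements]
    intro T (x : T ⟶ L.X (n + 1)) (hx : x ≫ L.d (n + 1) (n + 1 + 1) = 0)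
    let α : ∀ k, (∐ fun _ : Witness A => separator A) ⟶ Q.X k := fun k => Sigma.desc fun t => val t k ≫ π.f k
    have hα : ∀ k, gens A k ≫ p.f k ≫ i.f k = α k := fun k => by
      rw [← HomologicalComplex.comp_f, fac, HomologicalComplex.comp_f, gens_descBigDisk_assoc]
      exact Sigma.hom_ext _ _ fun t => by simp [α]
    obtain ⟨T₁, e₁, he₁, x₁, hx₁⟩ := surjective_up_to_refinements_of_epi (p.f (n + 1)) x
    have := epi_gens (A := A) n (n + 1) rfl
    obtain ⟨T₂, e₂, he₂, x₂, hx₂⟩ :=
      surjective_up_to_refinements_of_epi (biprod.desc (gens A (n + 1)) (gens A n ≫ (bigDisk A).d n (n + 1))) x₁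
    have hxQ : e₂ ≫ e₁ ≫ x ≫ i.f (n + 1) =
        (x₂ ≫ biprod.fst) ≫ α (n + 1) + (x₂ ≫ biprod.snd) ≫ α n ≫ Q.d n (n + 1) := by
      rw [reassoc_of% hx₁, reassoc_of% hx₂, biprod.desc_eq]
      simp only [Preadditive.add_comp, Preadditive.comp_add, Category.assoc, hα]
      rw [← p.comm_assoc, ← i.comm, reassoc_of% (hα n)]
    have hker : (x₂ ≫ biprod.fst) ≫ α (n + 1) ≫ Q.d (n + 1) (n + 1 + 1) = 0 := by
      have := congrArg (· ≫ Q.d (n + 1) (n + 1 + 1)) hxQ
      simp [reassoc_of% hx] at this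
      simpa using this.symm
    have hz : kernel.ι (α (n + 1) ≫ Q.d (n + 1) (n + 1 + 1)) ≫ α (n + 1) ≫
        cokernel.π (α n ≫ Q.d n (n + 1)) = 0 := by
      refine eq_zero_of_finset_cover _ (kernel.ι _) _ fun S T t y hy => ?_
      let e := (Finset.equivFin S).symm
      let a : Fin S.card → (separator A ⟶ Y.X (n + 1)) := fun j => val (e j).1.as (n + 1)
      let y' : T ⟶ ∐ fun _ : Fin S.card => separator A :=
        y ≫ Sigma.desc fun s => Sigma.ι (fun _ : Fin S.card => separator A) (e.symm s)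
      have hy' : y' ≫ Sigma.desc (fun j => a j ≫ π.f (n + 1)) =
          t ≫ kernel.ι (α (n + 1) ≫ Q.d (n + 1) (n + 1 + 1)) ≫ α (n + 1) := by
        rw [← Category.assoc t, hy, Category.assoc, Category.assoc]
        congr 1
        exact Sigma.hom_ext _ _ fun s => by simp [a, α]
      obtain ⟨l, hl⟩ := kernel.lift' (Sigma.desc (fun j => a j ≫ π.f (n + 1)) ≫ Q.d (n + 1) (n + 1 + 1)) y'
        (by rw [reassoc_of% hy']; simp)
      have h₀ := congrArg (l ≫ ·) (hb n _ a)
      simp only [comp_zero, reassoc_of% hl, reassoc_of% hy'] at h₀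
      have h₁ : Sigma.desc (fun r => b n _ a r ≫ π.f n ≫ Q.d n (n + 1)) ≫
          cokernel.π (α n ≫ Q.d n (n + 1)) = 0 := by
        refine Sigma.hom_ext _ _ fun r => ?_
        let w : Witness A := Witness.node n S.card (fun j => (e j).1.as) r
        have : (val w n ≫ π.f n) ≫ Q.d n (n + 1) ≫ cokernel.π (α n ≫ Q.d n (n + 1)) = 0 := by
          rw [show val w n ≫ π.f n = Sigma.ι (fun _ : Witness A => separator A) w ≫ α n from
            (Sigma.ι_desc (fun t => val t n ≫ π.f n) w).symm, Category.assoc, ← Category.assoc (α n), cokernel.condition, comp_zero]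
        rw [hval] at this
        rw [Sigma.ι_desc_assoc, comp_zero]
        simpa [Category.assoc] using this
      rw [← cokernel.π_desc _ _ h₁, reassoc_of% h₀, zero_comp]
    obtain ⟨T₃, e₃, he₃, c, hc⟩ := (ShortComplex.exact_iff_exact_up_to_refinements
      (ShortComplex.mk _ _ (cokernel.condition (α n ≫ Q.d n (n + 1))))).1 (ShortComplex.exact_cokernel _)
      ((x₂ ≫ biprod.fst) ≫ α (n + 1)) (by
        obtain ⟨l, hl⟩ := kernel.lift' _ _ hker
        dsimp
        rw [← hl, Category.assoc, Category.assoc, hz, comp_zero])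
    dsimp at hc
    have key : (e₃ ≫ e₂ ≫ e₁) ≫ x =
        ((c + e₃ ≫ x₂ ≫ biprod.snd) ≫ gens A n ≫ p.f n) ≫ L.d n (n + 1) := by
      rw [← cancel_mono (i.f (n + 1))]
      simp only [Category.assoc] at hxQ hc ⊢
      rw [hxQ, Preadditive.comp_add, hc, ← i.comm, reassoc_of% (hα n)]
      simp [Preadditive.add_comp]
    exact ⟨T₃, e₃ ≫ e₂ ≫ e₁, inferInstance, _, key⟩

end Groth.Agent.KInj
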